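import Groth.Agent.EtEff48.Desc.PushPull

/-!
# Base change of `T ↦ a_* a^* F` along integral morphisms
-/

set_option autoImplicit false
set_option backward.isDefEq.respectTransparency false
set_option backward.isDefEq.respectTransparency.types false

universe u

open CategoryTheory CategoryTheory.Limits AlgebraicGeometry Opposite

namespace Groth.Agent.EtEff48.PP

open HFun EtFound

variable {X X' Y Y' Z : Scheme.{u}} {f : X ⟶ Y} {η : Y' ⟶ Y} {f' : X' ⟶ Y'} {p : X' ⟶ X}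

theorem push_app_comp {X Y : Scheme.{u}} (f : X ⟶ Y) {A : EtCoh.Ab Y} {B C : EtCoh.Ab X}
    (a : A ⟶ (EtCoh.push f).obj B) (b : B ⟶ C) (W : Y.Etale) (x : A.obj.obj (op W)) :
    (a ≫ (EtCoh.push f).map b).hom.app (op W) x = b.hom.app (op ((EtCoh.bc f).obj W)) (a.hom.app (op W) x) := rfl

/-- The base change map followed by a morphism. -/
noncomputable def bcm (w : p ≫ f = f' ≫ η) {G : EtCoh.Ab X} {K : EtCoh.Ab X'} (a : (EtCoh.pull p).obj G ⟶ K) :
    (EtCoh.pull η).obj ((EtCoh.push f).obj G) ⟶ (EtCoh.push f').obj K :=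
  EtCoh.baseChange0 f η f' p w G ≫ (EtCoh.push f').map a

/-- The base change map followed by a morphism, on sections from the base. -/
theorem baseChange_apply (w : p ≫ f = f' ≫ η) {G : EtCoh.Ab X} {K : EtCoh.Ab X'} (a : (EtCoh.pull p).obj G ⟶ K)
    (V : Y.Etale) (x : G.obj.obj (op ((EtCoh.bc f).obj V))) :
    (bcm w a).hom.app (op ((EtCoh.bc η).obj V))
        (up η ((EtCoh.push f).obj G) V x) =
      K.obj.map (bcSquare w V).op ((adj p a).hom.app (op ((EtCoh.bc f).obj V)) x) := by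
  rw [bcm]
  refine (push_app_comp f' _ a _ _).trans ?_
  refine (congrArg _ (ConcreteCategory.congr_hom (baseChange0_unit f η f' p w G V) x)).trans ?_
  refine (NatTrans.naturality_apply a.hom (bcSquare w V).op _).trans ?_
  exact congrArg _ (adj_apply p a _ x).symm

theorem comp_apply_gen {T : Scheme.{u}} {A B C : EtCoh.Ab T} (a : A ⟶ B) (b : B ⟶ C) (W : T.Etale)
    (x : A.obj.obj (op W)) : (a ≫ b).hom.app (op W) x = b.hom.app (op W) (a.hom.app (op W) x) := rfl

/-- The two identifications of iterated base changes. -/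
theorem square_cmp {S S' : Scheme.{u}} {s : S ⟶ Y} {s' : S' ⟶ Y'} {q : S' ⟶ S} (k : S ⟶ X) (k' : S' ⟶ X')
    (r : S' ⟶ X) (hqk : q ≫ k = r) (hkp : k' ≫ p = r) (hk : k ≫ f = s) (hk' : k' ≫ f' = s')
    (w : p ≫ f = f' ≫ η) (w' : q ≫ s = s' ≫ η) (V : Y.Etale) :
    (bcSquare w' V ≫ (EtCoh.bc q).map (cinv k f s hk V)) ≫ cmp q k r hqk ((EtCoh.bc f).obj V) =
      (cinv k' f' s' hk' ((EtCoh.bc η).obj V) ≫ (EtCoh.bc k').map (bcSquare w V)) ≫
        cmp k' p r hkp ((EtCoh.bc f).obj V) := by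
  refine hom_ext_bc ?_
  refine ((Category.assoc _ _ _).trans ((congrArg (_ ≫ ·) (cmp_fst q k r hqk _)).trans ((Category.assoc _ _ _).trans
    ((congrArg (_ ≫ ·) ((Category.assoc _ _ _).symm.trans ((congrArg (· ≫ _) (bc_map_fst q (cinv k f s hk V))).trans
      (Category.assoc _ _ _)))))))).trans (Eq.trans ?_
    ((Category.assoc _ _ _).trans ((congrArg (_ ≫ ·) (cmp_fst k' p r hkp _)).trans ((Category.assoc _ _ _).trans
    ((congrArg (_ ≫ ·) ((Category.assoc _ _ _).symm.trans ((congrArg (· ≫ _) (bc_map_fst k' (bcSquare w V))).trans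
      (Category.assoc _ _ _)))))))).symm)
  refine pullback.hom_ext ?_ ?_
  · refine ((Category.assoc _ _ _).trans ((congrArg (_ ≫ ·) ((Category.assoc _ _ _).trans (congrArg (_ ≫ ·)
      ((Category.assoc _ _ _).trans (cinv_fst_fst k f s hk V))))).trans (bcSquare_fst w' V))).trans (Eq.trans ?_
      ((Category.assoc _ _ _).trans ((congrArg (_ ≫ ·) ((Category.assoc _ _ _).trans (congrArg (_ ≫ ·)
      ((Category.assoc _ _ _).trans ((Category.assoc _ _ _).symm.trans ((Category.assoc _ _ _).trans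
        (bcSquare_fst w V))))))))).symm)
    exact ((congrArg (_ ≫ ·) ((Category.assoc _ _ _).symm)).trans ((Category.assoc _ _ _).symm.trans
      (congrArg (· ≫ _) (cinv_fst_fst k' f' s' hk' ((EtCoh.bc η).obj V))))).symm
  · have e₁ : ∀ {A B : Scheme.{u}} (t : A ⟶ B) {U : B.Etale} {W : A.Etale} (m : W ⟶ (EtCoh.bc t).obj U),
        m.left ≫ pullback.fst U.hom t ≫ U.hom = W.hom ≫ t := fun t U W m =>
      (congrArg (_ ≫ ·) pullback.condition).trans ((Category.assoc _ _ _).symm.trans (congrArg (· ≫ t) (MorphismProperty.Over.w m)))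
    have e₂ : ∀ {A B : Scheme.{u}} (t : A ⟶ B) (U : B.Etale),
        pullback.fst U.hom t ≫ U.hom = ((EtCoh.bc t).obj U).hom ≫ t := fun t U => pullback.condition
    refine ((Category.assoc _ _ _).trans ((congrArg (_ ≫ ·) ((Category.assoc _ _ _).trans ((congrArg (_ ≫ ·)
      ((Category.assoc _ _ _).trans (e₁ k (cinv k f s hk V)))).trans ((Category.assoc _ _ _).symm.trans
        ((congrArg (· ≫ k) (e₂ q ((EtCoh.bc s).obj V))).trans (Category.assoc _ _ _)))))).trans
          ((Category.assoc _ _ _).symm.trans ((congrArg (· ≫ _) (MorphismProperty.Over.w (bcSquare w' V))).trans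
            (congrArg (_ ≫ ·) hqk))))).trans (Eq.trans ?_
      ((Category.assoc _ _ _).trans ((congrArg (_ ≫ ·) ((Category.assoc _ _ _).trans ((congrArg (_ ≫ ·)
      ((Category.assoc _ _ _).trans (e₁ p (bcSquare w V)))).trans ((Category.assoc _ _ _).symm.trans
        ((congrArg (· ≫ p) (e₂ k' ((EtCoh.bc f').obj ((EtCoh.bc η).obj V)))).trans (Category.assoc _ _ _)))))).trans
          ((Category.assoc _ _ _).symm.trans ((congrArg (· ≫ _) (MorphismProperty.Over.w
            (cinv k' f' s' hk' ((EtCoh.bc η).obj V)))).trans (congrArg (_ ≫ ·) hkp))))).symm)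
    rfl

/-- Naturality of base change, generically. -/
theorem natural_gen {S S' : Scheme.{u}} {s : S ⟶ Y} {s' : S' ⟶ Y'} {q : S' ⟶ S} (k : S ⟶ X) (k' : S' ⟶ X')
    (r : S' ⟶ X) (hqk : q ≫ k = r) (hkp : k' ≫ p = r) (hk : k ≫ f = s) (hk' : k' ≫ f' = s')
    (w : p ≫ f = f' ≫ η) (w' : q ≫ s = s' ≫ η)
    {G : EtCoh.Ab X} {G' : EtCoh.Ab X'} {H : EtCoh.Ab S} {H' : EtCoh.Ab S'}
    (φ : (EtCoh.pull η).obj ((EtCoh.push f).obj G) ⟶ (EtCoh.push f').obj G')
    (ψ : (EtCoh.pull η).obj ((EtCoh.push s).obj H) ⟶ (EtCoh.push s').obj H')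
    (a : G ⟶ (EtCoh.push k).obj H) (a' : G' ⟶ (EtCoh.push k').obj H')
    (b : G ⟶ (EtCoh.push p).obj G') (c : H ⟶ (EtCoh.push q).obj H') (d : G ⟶ (EtCoh.push r).obj H')
    (hφ : ∀ V x, φ.hom.app (op ((EtCoh.bc η).obj V)) (up η ((EtCoh.push f).obj G) V x) =
      G'.obj.map (bcSquare w V).op (b.hom.app (op ((EtCoh.bc f).obj V)) x))
    (hψ : ∀ V x, ψ.hom.app (op ((EtCoh.bc η).obj V)) (up η ((EtCoh.push s).obj H) V x) =
      H'.obj.map (bcSquare w' V).op (c.hom.app (op ((EtCoh.bc s).obj V)) x))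
    (H₁ : ∀ W x, H'.obj.map (cmp q k r hqk W).op (d.hom.app (op W) x) =
      c.hom.app (op ((EtCoh.bc k).obj W)) (a.hom.app (op W) x))
    (H₂ : ∀ W x, H'.obj.map (cmp k' p r hkp W).op (d.hom.app (op W) x) =
      a'.hom.app (op ((EtCoh.bc p).obj W)) (b.hom.app (op W) x)) :
    (EtCoh.pull η).map (qg k f s hk a) ≫ ψ = φ ≫ qg k' f' s' hk' a' := by
  refine hom_ext η fun V x => ?_
  refine (comp_apply_gen _ ψ _ _).trans (Eq.trans ?_ (comp_apply_gen φ _ _ _).symm)
  refine (congrArg _ (up_nat η (qg k f s hk a) V x)).trans ((hψ V _).trans ?_)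
  refine (congrArg _ ((congrArg _ (qg_apply k f s hk a V x)).trans
    ((push_map_apply q c (cinv k f s hk V) _).trans
      (congrArg _ (H₁ ((EtCoh.bc f).obj V) x).symm)))).trans ?_
  refine Eq.trans ?_ ((qg_apply k' f' s' hk' a' _ _).trans (congrArg _ ((congrArg _ (hφ V x)).trans
    ((push_map_apply k' a' (bcSquare w V) _).trans (congrArg _ (H₂ ((EtCoh.bc f).obj V) x).symm))))).symm
  rw [map_map, map_map, map_map, map_map]
  exact congrArg (fun m => H'.obj.map (Quiver.Hom.op m) _) (square_cmp k k' r hqk hkp hk hk' w w' V)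

variable (F : EtCoh.Ab Z) (g : Y ⟶ Z) (η)

/-- The comparison of the direct images over the base change. -/
noncomputable def φ (T : Over Y) :
    (EtCoh.pull η).obj ((EtCoh.push T.hom).obj ((EtCoh.pull (T.hom ≫ g)).obj F)) ⟶
      (EtCoh.push (pullback.snd T.hom η)).obj ((EtCoh.pull (pullback.snd T.hom η ≫ η ≫ g)).obj F) :=
  bcm (pullback.condition (f := T.hom) (g := η))
    (ζ (pullback.fst T.hom η) (T.hom ≫ g) (pullback.snd T.hom η ≫ η ≫ g) (pullback.condition_assoc g) F)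

theorem φ_eq (T : Over Y) : φ η F g T = bcm (pullback.condition (f := T.hom) (g := η))
    (ζ (pullback.fst T.hom η) (T.hom ≫ g) (pullback.snd T.hom η ≫ η ≫ g) (pullback.condition_assoc g) F) := rfl

theorem tw_eq {T T' : Scheme.{u}} (k : T' ⟶ T) (c : T ⟶ Z) (c' : T' ⟶ Z) (w : k ≫ c = c') :
    tw k c c' w F = adj k (ζ k c c' w F) := rfl

theorem baseChange_ζ_apply {f : X ⟶ Y} {c : X ⟶ Z} {p : X' ⟶ X} {f' : X' ⟶ Y'} {c' : X' ⟶ Z} (w : p ≫ f = f' ≫ η) (wc : p ≫ c = c') (V : Y.Etale)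
    (x : ((EtCoh.pull c).obj F).obj.obj (op ((EtCoh.bc f).obj V))) :
    (bcm w (ζ p c c' wc F)).hom.app (op ((EtCoh.bc η).obj V)) (up η ((EtCoh.push f).obj ((EtCoh.pull c).obj F)) V x) =
      ((EtCoh.pull c').obj F).obj.map (bcSquare w V).op ((adj p (ζ p c c' wc F)).hom.app (op ((EtCoh.bc f).obj V)) x) :=
  baseChange_apply w (ζ p c c' wc F) V x

theorem φ_apply (T : Over Y) (V : Y.Etale) (x : ((EtCoh.pull (T.hom ≫ g)).obj F).obj.obj (op ((EtCoh.bc T.hom).obj V))) :
    (φ η F g T).hom.app (op ((EtCoh.bc η).obj V)) (up η _ V x) =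
      ((EtCoh.pull (pullback.snd T.hom η ≫ η ≫ g)).obj F).obj.map
        (bcSquare (pullback.condition (f := T.hom) (g := η)) V).op
          ((tw (pullback.fst T.hom η) (T.hom ≫ g) (pullback.snd T.hom η ≫ η ≫ g) (pullback.condition_assoc g) F).hom.app
            (op ((EtCoh.bc T.hom).obj V)) x) := by
  rw [φ_eq, tw_eq]
  exact baseChange_ζ_apply η F (pullback.condition (f := T.hom) (g := η)) (pullback.condition_assoc g) V x

theorem φ_natural {S T : Over Y} (k : S ⟶ T) (k' : pullback S.hom η ⟶ pullback T.hom η)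
    (hkp : k' ≫ pullback.fst T.hom η = pullback.fst S.hom η ≫ k.left)
    (hk' : k' ≫ pullback.snd T.hom η = pullback.snd S.hom η)
    (w : k' ≫ pullback.snd T.hom η ≫ η ≫ g = pullback.snd S.hom η ≫ η ≫ g)
    (w₀ : (pullback.fst S.hom η ≫ k.left) ≫ T.hom ≫ g = pullback.snd S.hom η ≫ η ≫ g) :
    (EtCoh.pull η).map (qg k.left T.hom S.hom (Over.w k) (tw k.left (T.hom ≫ g) (S.hom ≫ g) (w_assoc g k) F)) ≫ φ η F g S =
      φ η F g T ≫ qg k' (pullback.snd T.hom η) (pullback.snd S.hom η) hk'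
        (tw k' (pullback.snd T.hom η ≫ η ≫ g) (pullback.snd S.hom η ≫ η ≫ g) w F) :=
  natural_gen k.left k' _ rfl hkp (Over.w k) hk'
    pullback.condition pullback.condition (φ η F g T) (φ η F g S)
    (tw k.left (T.hom ≫ g) (S.hom ≫ g) (w_assoc g k) F)
    (tw k' (pullback.snd T.hom η ≫ η ≫ g) (pullback.snd S.hom η ≫ η ≫ g) w F)
    (tw (pullback.fst T.hom η) (T.hom ≫ g) (pullback.snd T.hom η ≫ η ≫ g) (pullback.condition_assoc g) F)
    (tw (pullback.fst S.hom η) (S.hom ≫ g) (pullback.snd S.hom η ≫ η ≫ g) (pullback.condition_assoc g) F)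
    (tw (pullback.fst S.hom η ≫ k.left) (T.hom ≫ g) (pullback.snd S.hom η ≫ η ≫ g) w₀ F)
    (φ_apply η F g T) (φ_apply η F g S)
    (tw_comp (pullback.fst S.hom η) k.left (pullback.fst S.hom η ≫ k.left) rfl (T.hom ≫ g) (S.hom ≫ g)
      (pullback.snd S.hom η ≫ η ≫ g) (w_assoc g k) (pullback.condition_assoc g) w₀ F)
    (tw_comp k' (pullback.fst T.hom η) (pullback.fst S.hom η ≫ k.left) hkp (T.hom ≫ g)
      (pullback.snd T.hom η ≫ η ≫ g) (pullback.snd S.hom η ≫ η ≫ g) (pullback.condition_assoc g) w w₀ F)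

theorem isIso_φ (T : Over Y) [IsIntegralHom T.hom] : IsIso (φ η F g T) := by
  have : IsIso (EtCoh.baseChange0 T.hom η (pullback.snd T.hom η) (pullback.fst T.hom η) pullback.condition
      ((EtCoh.pull (T.hom ≫ g)).obj F)) :=
    isIso_baseChange_of_integral (IsPullback.of_hasPullback T.hom η) _ _
      (baseChange0_unit T.hom η (pullback.snd T.hom η) (pullback.fst T.hom η) pullback.condition _)
  unfold φ bcm
  exact IsIso.comp_isIso

end Groth.Agent.EtEff48.PP
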