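import Groth.Agent.TopDesc98.SS1.Tot
import Groth.Agent.TopDesc98.Acyc.Basic
import Groth.Agent.SpObjSS.SiteLeray
import Groth.Agent.Der55.TotalQuasiIso
import Groth.Prelude.Def_SpSeq

/-!
# The spectral sequence of a double complex of injectives resolving an object
-/

set_option autoImplicit false
set_option linter.style.haveILetI false
set_option backward.isDefEq.respectTransparency false
set_option backward.isDefEq.respectTransparency.types false

universe v u

open CategoryTheory CategoryTheory.Limits Abelian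

namespace Groth.Agent.EtEff48.DblSS

open Groth.Agent.TopDesc98 Groth.Agent.TriCat

variable {A : Type u} [Category.{v} A] [Abelian A] [HasProducts.{0} A] [HasCoproducts.{0} A]
  (K : HomologicalComplex₂ A (ComplexShape.up ℤ) (ComplexShape.up ℤ))
  (hK : ∀ p q : ℤ, p < 0 ∨ q < 0 → IsZero ((K.X p).X q))

instance hasTotal : K.HasTotal (ComplexShape.up ℤ) := fun n => inferInstance

local notation "Tot" => HomologicalComplex₂.total K (ComplexShape.up ℤ)

include hK in
theorem id_total (n : ℤ) :
    𝟙 ((Tot).X n) = ∑ p ∈ Finset.Icc 0 n,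
      Der55.totπ K p (n - p) n (by omega) ≫
        K.ιTotal (ComplexShape.up ℤ) p (n - p) n (show p + (n - p) = n by omega) := by
  refine HomologicalComplex₂.total.hom_ext (ComplexShape.up ℤ) fun i q hi => ?_
  have hi' : i + q = n := hi
  rw [Category.comp_id, Preadditive.comp_sum]
  by_cases hm : i ∈ Finset.Icc 0 n
  · rw [Finset.sum_eq_single i]
    · obtain rfl : q = n - i := by omega
      rw [reassoc_of% (Der55.ι_totπ_self K i (n - i) n hi')]
    · intro p _ hne
      rw [reassoc_of% (Der55.ι_totπ_ne K i q p (n - p) n hi' (by omega) (by omega)), zero_comp]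
    · exact fun h => absurd hm h
  · refine IsZero.eq_of_src (hK i q ?_) _ _
    simp only [Finset.mem_Icc, not_and_or, not_le] at hm
    omega

include hK in
theorem isStrictlyGE_total : CochainComplex.IsStrictlyGE Tot 0 := by
  rw [CochainComplex.isStrictlyGE_iff]
  intro n hn
  rw [IsZero.iff_id_eq_zero, id_total K hK, Finset.Icc_eq_empty (by omega), Finset.sum_empty]

variable (hInj : ∀ p q : ℤ, Injective ((K.X p).X q))

include hK hInj in
theorem injective_total (n : ℤ) : Injective ((Tot).X n) := by
  classical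
  haveI : ∀ p : Finset.Icc 0 n, Injective ((K.X p.1).X (n - p.1)) := fun p => hInj _ _
  let r : Retract ((Tot).X n) (∏ᶜ fun p : Finset.Icc 0 n => (K.X p.1).X (n - p.1)) :=
    { i := Pi.lift fun p => Der55.totπ K p.1 (n - p.1) n (by omega)
      r := ∑ p : Finset.Icc 0 n, Pi.π _ p ≫
        K.ιTotal (ComplexShape.up ℤ) p.1 (n - p.1) n (show p.1 + (n - p.1) = n by omega)
      retract := by
        rw [id_total K hK n, Preadditive.comp_sum, ← Finset.sum_coe_sort (Finset.Icc 0 n)]
        exact Finset.sum_congr rfl fun p _ => by rw [Pi.lift_π_assoc] }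
  exact r.injective

variable (Z : A)

/-- Morphisms from `Z` into the double complex. -/
noncomputable def homDCx : DCx.{v} :=
  (((preadditiveCoyoneda.obj (Opposite.op Z)).mapHomologicalComplex _).mapHomologicalComplex _).obj K

include hK in
theorem isQuad : IsQuad (homDCx K Z) := fun p q h =>
  (preadditiveCoyoneda.obj (Opposite.op Z)).map_isZero (hK p q h)

/-- The components of a morphism into the total complex. -/
noncomputable def compts (n : ℤ) : (Z ⟶ (Tot).X n) →+ DCx.stepGrp (homDCx K Z) ⊤ n :=
  AddMonoidHom.mk'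
    (fun x => ⟨fun p q => if h : p + q = n then (x ≫ Der55.totπ K p q n h : Z ⟶ (K.X p).X q) else
      (0 : Z ⟶ (K.X p).X q), fun p q h => by
        rcases h with h | h
        · exact dif_neg h
        · exact absurd le_top h⟩)
    fun x y => by
      refine Subtype.ext (funext fun p => funext fun q => ?_)
      show (dite _ _ _ : Z ⟶ (K.X p).X q) = dite _ _ _ + dite _ _ _
      by_cases h : p + q = n
      · rw [dif_pos h, dif_pos h, dif_pos h, Preadditive.add_comp]
      · rw [dif_neg h, dif_neg h, dif_neg h, add_zero]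

theorem compts_apply (n : ℤ) (x : Z ⟶ (Tot).X n) (p q : ℤ) (h : p + q = n) :
    ((compts K Z n x).1 p q : Z ⟶ (K.X p).X q) = x ≫ Der55.totπ K p q n h := dif_pos h

include hK in
theorem compts_bijective (n : ℤ) : Function.Bijective (compts K Z n) := by
  classical
  refine ⟨(injective_iff_map_eq_zero _).2 fun x hx => Der55.eq_zero_of_totπ K 0 0 hK x fun p q hpq => ?_, fun z => ?_⟩
  · rw [← compts_apply K Z n x p q hpq, hx]
    rfl
  · refine ⟨∑ p ∈ Finset.Icc 0 n, (z.1 p (n - p) : Z ⟶ (K.X p).X (n - p)) ≫
      K.ιTotal (ComplexShape.up ℤ) p (n - p) n (show p + (n - p) = n by omega),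
      Subtype.ext (funext fun p => funext fun q => ?_)⟩
    by_cases h : p + q = n
    · rw [compts_apply K Z n _ p q h, Preadditive.sum_comp]
      obtain rfl : q = n - p := by omega
      by_cases hm : p ∈ Finset.Icc 0 n
      · rw [Finset.sum_eq_single p]
        · rw [Category.assoc, Der55.ι_totπ_self]
          exact Category.comp_id _
        · intro p' _ hne
          rw [Category.assoc, Der55.ι_totπ_ne K p' (n - p') p (n - p) n (by omega) (by omega) (by omega), comp_zero]
        · exact fun h => absurd hm h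
      · simp only [Finset.mem_Icc, not_and_or, not_le] at hm
        exact (hK p (n - p) (by omega)).eq_of_tgt _ _
    · exact (dif_neg h).trans (z.2 p q (Or.inl h)).symm

theorem compts_d (n : ℤ) (x : Z ⟶ (Tot).X n) :
    (compts K Z (n + 1) (x ≫ (Tot).d n (n + 1))).1 = DCx.D (homDCx K Z) (compts K Z n x).1 := by
  refine funext fun p => funext fun q => ?_
  rw [DCx.D_apply]
  by_cases h : p + q = n + 1
  · rw [compts_apply K Z (n + 1) _ p q h, compts_apply K Z n x p (q - 1) (by omega),
      compts_apply K Z n x (p - 1) q (by omega), Category.assoc,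
      Der55.d_totπ K (p - 1) p q (q - 1) n (n + 1) (by omega) h (by omega) rfl (by omega)]
    rw [Preadditive.comp_add, add_comm]
    refine congrArg₂ (fun a b : Z ⟶ (K.X p).X q => a + b) ?_ ?_
    · rw [HomologicalComplex₂.total_d, Preadditive.add_comp, Preadditive.comp_add,
        HomologicalComplex₂.ι_D₁_assoc, HomologicalComplex₂.ι_D₂_assoc,
        HomologicalComplex₂.d₁_eq K (ComplexShape.up ℤ) (i₁' := p + 1) rfl (q - 1) (n + 1) (show p + 1 + (q - 1) = n + 1 by omega),
        HomologicalComplex₂.d₂_eq K (ComplexShape.up ℤ) p (i₂ := q - 1) (i₂' := q) (show q - 1 + 1 = q by omega) (n + 1) h]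
      simp only [Category.assoc, Linear.units_smul_comp, Linear.comp_units_smul, Units.smul_def]
      simp only [Preadditive.zsmul_comp, Category.assoc]
      rw [Der55.ι_totπ_ne K (p + 1) (q - 1) p q (n + 1) (by omega) h (by omega), Der55.ι_totπ_self]
      simp only [comp_zero, smul_zero, zero_add, Category.comp_id, Preadditive.comp_zsmul]
      exact (congrArg (fun c : ℤ => c • _) rfl).trans (congrArg _ (Category.assoc _ _ _).symm)
    · exact (Category.assoc _ _ _).symm
  · rw [show ((compts K Z (n + 1) (x ≫ (Tot).d n (n + 1))).1 p q : Z ⟶ (K.X p).X q) = 0 from dif_neg h,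
      show ((compts K Z n x).1 p (q - 1) : Z ⟶ (K.X p).X (q - 1)) = 0 from dif_neg (by omega),
      show ((compts K Z n x).1 (p - 1) q : Z ⟶ (K.X (p - 1)).X q) = 0 from dif_neg (by omega)]
    simp only [map_zero, smul_zero, add_zero]

include hK in
theorem nonempty_total_hom_iso :
    Nonempty (((preadditiveCoyoneda.obj (Opposite.op Z)).mapHomologicalComplex (ComplexShape.up ℤ)).obj Tot ≅
      DCx.total (homDCx K Z)) := by
  refine ⟨HomologicalComplex.Hom.isoOfComponents
    (fun n => (AddEquiv.ofBijective (compts K Z n) (compts_bijective K hK Z n)).toAddCommGrpIso) fun i j hij => ?_⟩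
  obtain rfl : i + 1 = j := hij
  refine ConcreteCategory.hom_ext _ _ fun x => Subtype.ext ?_
  exact (DCx.stepCx_d (homDCx K Z) ⊤ i (compts K Z i x)).trans (compts_d K Z i x).symm

variable [HasExt.{v} A] [EnoughInjectives A]

include hK hInj in
/-- The spectral sequence of a double complex of injectives resolving `F`. -/
theorem exists_spectralSequence (F : A) (ι : (CochainComplex.singleFunctor A 0).obj F ⟶ Tot) [QuasiIso ι]
    (E₁ : ℤ → ℤ → AddCommGrpCat.{v})
    (eE : ∀ p q, Nonempty ((((preadditiveCoyoneda.obj (Opposite.op Z)).mapHomologicalComplex _).obj (K.X p)).homology q ≅ E₁ p q))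
    (H : ℤ → AddCommGrpCat.{v}) (hH : ∀ n : ℕ, Nonempty (AddCommGrpCat.of (Ext Z F n) ≅ H n))
    (hH' : ∀ n : ℤ, n < 0 → IsZero (H n)) :
    ∃ (E : CohomologicalSpectralSequence AddCommGrpCat.{v} 1) (a : SpSeq.Abutment E H),
      (∀ n, a.IsFinite n) ∧ SpSeq.IsBounded E ∧
      ∀ p q : ℤ, Nonempty ((E.page 1 le_rfl).X (p, q) ≅ E₁ p q) := by
  haveI := isStrictlyGE_total K hK
  obtain ⟨eT⟩ := nonempty_total_hom_iso K hK Z
  refine Groth.Agent.TopDesc98.exists_spectralSequence (homDCx K Z) (isQuad K hK Z) H (fun n => ?_) E₁ eE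
  rcases lt_or_ge n 0 with hn | hn
  · refine ⟨((HomologicalComplex.homologyMapIso eT n).symm.trans (IsZero.iso ?_ (hH' n hn)))⟩
    refine DCx.isZero_homology_of_isZero ?_
    exact (preadditiveCoyoneda.obj (Opposite.op Z)).map_isZero (CochainComplex.isZero_of_isStrictlyGE Tot 0 n hn)
  · obtain ⟨m, rfl⟩ := Int.eq_ofNat_of_zero_le hn
    obtain ⟨e⟩ := nonempty_rightDerived_iso_of_resolution (preadditiveCoyoneda.obj (Opposite.op Z)) F Tot ι
      (fun n => haveI := injective_total K hK hInj n; isRightAcyclic_of_injective _) m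
    obtain ⟨e'⟩ := hH m
    exact ⟨(HomologicalComplex.homologyMapIso eT (m : ℤ)).symm ≪≫ e ≪≫
      Groth.Agent.SpObjSS.rightDerivedHomFromIso Z m F ≪≫ e'⟩

end Groth.Agent.EtEff48.DblSS
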