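import Mathlib

/-!
# A functorial injective resolution preserving zero maps

With an injective coseparator `E`, `A ↦ ∏_{φ : A ⟶ E, φ ≠ 0} E` is a functor preserving zero maps which receives
a natural monomorphism from the identity; iterating gives resolutions functorial in the object.
-/

set_option autoImplicit false
set_option linter.style.haveILetI false

universe v u

open CategoryTheory CategoryTheory.Limits

namespace Groth.Agent.EtEff48.InjFun

variable {A : Type u} [Category.{v} A] [Abelian A]

section Cosep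

variable [IsGrothendieckAbelian.{v} A]

/-- A Grothendieck category has an injective coseparator. -/
theorem exists_injective_coseparator : ∃ E : A, Injective E ∧ IsCoseparator E := by
  haveI : WellPowered.{v} A := inferInstance
  let G := CategoryTheory.separator A
  have hG : IsSeparator G := isSeparator_separator A
  classical
  let J := fun S : Shrink.{v} (Subobject G) => Injective.under (cokernel ((equivShrink _).symm S).arrow)
  refine ⟨∏ᶜ J, inferInstance, (Preadditive.isCoseparator_iff _).2 fun X Y f hf => ?_⟩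
  refine hG.def f 0 fun g => ?_
  rw [comp_zero]
  by_contra h
  let S : Subobject G := kernelSubobject (g ≫ f)
  let m : cokernel S.arrow ⟶ Y := cokernel.desc S.arrow (g ≫ f) (kernelSubobject_arrow_comp _)
  haveI : Mono m := by
    have e : S.arrow = (kernelSubobjectIso (g ≫ f)).hom ≫ kernel.ι (g ≫ f) :=
      (kernelSubobject_arrow _).symm
    let i : cokernel S.arrow ≅ Abelian.coimage (g ≫ f) :=
      cokernelIsoOfEq e ≪≫ cokernelEpiComp _ _
    have : m = i.hom ≫ Abelian.factorThruCoimage (g ≫ f) := by
      apply coequalizer.hom_ext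
      simp [m, i]
    rw [this]
    infer_instance
  let j : cokernel S.arrow ⟶ ∏ᶜ J :=
    Pi.lift fun T => if hT : T = equivShrink _ S then
      Injective.ι (cokernel S.arrow) ≫ eqToHom (congrArg (fun Z : Subobject G => Injective.under (cokernel Z.arrow))
        ((Equiv.eq_symm_apply _).2 hT.symm)) else 0
  obtain ⟨k, hk⟩ := Injective.factors j m
  have h1 : g ≫ f ≫ k = 0 := by rw [hf k, comp_zero]
  rw [← Category.assoc, show g ≫ f = cokernel.π S.arrow ≫ m from (cokernel.π_desc _ _ _).symm,
    Category.assoc, hk] at h1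
  have h2 := congrArg (· ≫ Pi.π J (equivShrink _ S)) h1
  simp only [Category.assoc, zero_comp, j, Pi.lift_π, dif_pos] at h2
  rw [← Category.assoc] at h2
  have h3 : cokernel.π S.arrow ≫ Injective.ι (cokernel S.arrow) = 0 :=
    (cancel_mono (eqToHom _)).1 (h2.trans zero_comp.symm)
  have h4 : cokernel.π S.arrow = 0 :=
    (cancel_mono (Injective.ι (cokernel S.arrow))).1 (h3.trans zero_comp.symm)
  apply h
  rw [show g ≫ f = cokernel.π S.arrow ≫ m from (cokernel.π_desc _ _ _).symm, h4, zero_comp]

end Cosep

variable (E : A) [Injective E] [HasProducts.{v} A]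

/-- The underlying object. -/
noncomputable abbrev Iobj (X : A) : A := ∏ᶜ fun _ : {φ : X ⟶ E // φ ≠ 0} => E

/-- The projections, zero at the zero map. -/
noncomputable def pr {X : A} (φ : X ⟶ E) : Iobj E X ⟶ E :=
  open scoped Classical in if h : φ = 0 then 0 else Pi.π (fun _ : {φ : X ⟶ E // φ ≠ 0} => E) ⟨φ, h⟩

theorem pr_zero (X : A) : pr E (0 : X ⟶ E) = 0 := dif_pos rfl

theorem hom_ext {X Z : A} {a b : Z ⟶ Iobj E X} (h : ∀ φ : X ⟶ E, a ≫ pr E φ = b ≫ pr E φ) : a = b := by
  refine Pi.hom_ext _ _ fun φ => ?_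
  have := h φ.1
  rwa [pr, dif_neg φ.2] at this

/-- The map on products. -/
noncomputable def Imap {X Y : A} (f : X ⟶ Y) : Iobj E X ⟶ Iobj E Y := Pi.lift fun φ => pr E (f ≫ φ.1)

theorem Imap_pr {X Y : A} (f : X ⟶ Y) (φ : Y ⟶ E) : Imap E f ≫ pr E φ = pr E (f ≫ φ) := by
  by_cases h : φ = 0
  · subst h
    rw [pr_zero, comp_zero, comp_zero, pr_zero]
  · rw [pr, dif_neg h]
    exact Pi.lift_π _ _

/-- The functor. -/
noncomputable def I : A ⥤ A where
  obj := Iobj E
  map f := Imap E f
  map_id X := hom_ext E fun φ => by rw [Imap_pr, Category.id_comp, Category.id_comp]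
  map_comp f g := hom_ext E fun φ => by rw [Imap_pr, Category.assoc, Category.assoc, Imap_pr, Imap_pr]

instance : (I E).PreservesZeroMorphisms where
  map_zero X Y := hom_ext E fun φ => by
    show Imap E 0 ≫ pr E φ = 0 ≫ pr E φ
    rw [Imap_pr, zero_comp, zero_comp, pr_zero]

instance (X : A) : Injective ((I E).obj X) := inferInstanceAs (Injective (∏ᶜ fun _ => E))

/-- The inclusion. -/
noncomputable def η : 𝟭 A ⟶ I E where
  app X := Pi.lift fun φ => φ.1
  naturality X Y f := hom_ext E fun φ => by
    have key : ∀ (W : A) (ψ : W ⟶ E), (Pi.lift fun χ : {χ : W ⟶ E // χ ≠ 0} => χ.1) ≫ pr E ψ = ψ := fun W ψ => by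
      by_cases h : ψ = 0
      · subst h; rw [pr_zero, comp_zero]
      · rw [pr, dif_neg h]; exact Pi.lift_π _ _
    calc _ = f ≫ (Pi.lift fun χ : {χ : Y ⟶ E // χ ≠ 0} => χ.1) ≫ pr E φ := Category.assoc _ _ _
      _ = f ≫ φ := by rw [key]
      _ = (Pi.lift fun χ : {χ : X ⟶ E // χ ≠ 0} => χ.1) ≫ pr E (f ≫ φ) := (key X _).symm
      _ = _ := by rw [← Imap_pr]; exact (Category.assoc _ _ _).symm

theorem mono_η (hE : IsCoseparator E) (X : A) : Mono ((η E).app X) := by
  refine Preadditive.mono_of_cancel_zero _ fun g hg => ?_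
  refine (Preadditive.isCoseparator_iff _).1 hE g fun φ => ?_
  by_cases h : φ = 0
  · rw [h, comp_zero]
  · have := congrArg (· ≫ Pi.π (fun _ : {φ : X ⟶ E // φ ≠ 0} => E) ⟨φ, h⟩) hg
    exact (congrArg (g ≫ ·) (Pi.lift_π _ _)).symm.trans
      ((Category.assoc _ _ _).symm.trans (this.trans zero_comp))

@[reassoc]
theorem η_map {X Y : A} (f : X ⟶ Y) : (η E).app X ≫ (I E).map f = f ≫ (η E).app Y := ((η E).naturality f).symm

/-- The cokernel of the inclusion. -/
noncomputable def Q : A ⥤ A where
  obj X := cokernel ((η E).app X)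
  map {X Y} f := cokernel.map _ _ f ((I E).map f) ((η E).naturality f).symm
  map_id X := by apply coequalizer.hom_ext; simp
  map_comp f g := by apply coequalizer.hom_ext; simp

instance : (Q E).PreservesZeroMorphisms where
  map_zero X Y := by
    refine (cancel_epi (cokernel.π ((η E).app X))).1 ((cokernel.π_desc _ _ _).trans ?_)
    exact ((congrArg (· ≫ _) ((I E).map_zero X Y)).trans zero_comp).trans comp_zero.symm

/-- The iterated cokernels. -/
noncomputable def cyc : ℕ → A ⥤ A
  | 0 => 𝟭 A
  | n + 1 => cyc n ⋙ Q E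

instance cyc_preservesZero : ∀ n, (cyc E n).PreservesZeroMorphisms
  | 0 => inferInstanceAs (𝟭 A).PreservesZeroMorphisms
  | n + 1 => haveI := cyc_preservesZero n; inferInstanceAs (cyc E n ⋙ Q E).PreservesZeroMorphisms

/-- The differential. -/
noncomputable def resD (n : ℕ) : cyc E n ⋙ I E ⟶ cyc E (n + 1) ⋙ I E where
  app X := cokernel.π ((η E).app ((cyc E n).obj X)) ≫ (η E).app ((Q E).obj ((cyc E n).obj X))
  naturality X Y f := by
    calc _ = (I E).map ((cyc E n).map f) ≫ cokernel.π ((η E).app ((cyc E n).obj Y)) ≫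
          (η E).app ((Q E).obj ((cyc E n).obj Y)) := rfl
      _ = (cokernel.π ((η E).app ((cyc E n).obj X)) ≫ (Q E).map ((cyc E n).map f)) ≫
          (η E).app ((Q E).obj ((cyc E n).obj Y)) := by
        exact (Category.assoc _ _ _).symm.trans (congrArg (· ≫ _) (cokernel.π_desc _ _ _).symm)
      _ = _ := (Category.assoc _ _ _).trans ((congrArg (cokernel.π _ ≫ ·) (η_map E _).symm).trans
          (Category.assoc _ _ _).symm)

theorem resD_comp (n : ℕ) (X : A) : (resD E n).app X ≫ (resD E (n + 1)).app X = 0 := by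
  show (_ ≫ (η E).app ((Q E).obj ((cyc E n).obj X))) ≫ cokernel.π ((η E).app ((Q E).obj ((cyc E n).obj X))) ≫ _ = 0
  exact (Category.assoc _ _ _).trans ((congrArg (_ ≫ ·) (cokernel.condition_assoc _ _)).trans ((congrArg (_ ≫ ·) zero_comp).trans comp_zero))

/-- The resolution, functorial in the object. -/
noncomputable def res : A ⥤ CochainComplex A ℕ where
  obj X := CochainComplex.of (fun n => (I E).obj ((cyc E n).obj X)) (fun n => (resD E n).app X)
    fun n => resD_comp E n X
  map {X Y} f :=
    { f := fun n => (I E).map ((cyc E n).map f)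
      comm' := fun i j (h : i + 1 = j) => by
        subst h
        change _ ≫ CochainComplex.of.d (fun n => (I E).obj ((cyc E n).obj Y)) (fun n => (resD E n).app Y) i (i + 1) =
          CochainComplex.of.d (fun n => (I E).obj ((cyc E n).obj X)) (fun n => (resD E n).app X) i (i + 1) ≫ _
        rw [CochainComplex.of_d, CochainComplex.of_d]
        exact (resD E i).naturality f }
  map_id X := by ext n; simp
  map_comp f g := by ext n; simp

instance : (res E).PreservesZeroMorphisms where
  map_zero X Y := by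
    refine HomologicalComplex.hom_ext _ _ fun n => ?_
    show (I E).map ((cyc E n).map 0) = 0
    rw [Functor.map_zero, Functor.map_zero]

/-- The augmentation. -/
noncomputable def ε (X : A) : X ⟶ ((res E).obj X).X 0 := (η E).app X

theorem ε_natural {X Y : A} (f : X ⟶ Y) : ε E X ≫ ((res E).map f).f 0 = f ≫ ε E Y :=
  ((η E).naturality f).symm

theorem ε_comp_d (X : A) : ε E X ≫ ((res E).obj X).d 0 1 = 0 := by
  refine (congrArg ((η E).app X ≫ ·) (CochainComplex.of_d _ (fun n => (resD E n).app X) 0)).trans ?_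
  exact (cokernel.condition_assoc ((η E).app ((cyc E 0).obj X)) _).trans zero_comp

instance (X : A) (n : ℕ) : Injective (((res E).obj X).X n) :=
  inferInstanceAs (Injective ((I E).obj ((cyc E n).obj X)))

/-- It is exact in positive degrees. -/
theorem exactAt_succ (hE : IsCoseparator E) (X : A) (n : ℕ) : ((res E).obj X).ExactAt (n + 1) := by
  haveI := mono_η E hE
  rw [((res E).obj X).exactAt_iff' n (n + 1) (n + 1 + 1) (by simp) (by simp)]
  let Z := (Q E).obj ((cyc E n).obj X)
  have e1 : ((res E).obj X).d n (n + 1) = cokernel.π ((η E).app ((cyc E n).obj X)) ≫ (η E).app Z :=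
    CochainComplex.of_d _ (fun n => (resD E n).app X) n
  have e2 : ((res E).obj X).d (n + 1) (n + 1 + 1) = cokernel.π ((η E).app Z) ≫ (η E).app ((Q E).obj Z) :=
    CochainComplex.of_d _ (fun n => (resD E n).app X) (n + 1)
  let T := ShortComplex.mk ((η E).app Z) (cokernel.π ((η E).app Z)) (cokernel.condition _)
  have hT : T.Exact := ShortComplex.exact_of_g_is_cokernel _ (cokernelIsCokernel _)
  rw [ShortComplex.exact_iff_exact_up_to_refinements]
  intro W z hz
  have hz' : z ≫ cokernel.π ((η E).app Z) = 0 :=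
    (cancel_mono ((η E).app ((Q E).obj Z))).1 ((Category.assoc _ _ _).trans (((congrArg (z ≫ ·) e2).symm.trans hz).trans zero_comp.symm))
  obtain ⟨W', π, hπ, w, hw⟩ := hT.exact_up_to_refinements z hz'
  obtain ⟨W'', π', hπ', v, hv⟩ := surjective_up_to_refinements_of_epi (cokernel.π ((η E).app ((cyc E n).obj X))) w
  refine ⟨W'', π' ≫ π, epi_comp _ _, v, ?_⟩
  exact (Category.assoc _ _ _).trans ((congrArg (π' ≫ ·) hw).trans ((Category.assoc _ _ _).symm.trans
    ((congrArg (· ≫ (η E).app Z) hv).trans ((Category.assoc _ _ _).trans (congrArg (v ≫ ·) e1).symm))))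

/-- It is exact in degree zero. -/
theorem exact_zero (hE : IsCoseparator E) (X : A) :
    Mono (ε E X) ∧ (ShortComplex.mk (ε E X) _ (ε_comp_d E X)).Exact := by
  haveI := mono_η E hE
  refine ⟨inferInstanceAs (Mono ((η E).app X)), ?_⟩
  have e1 : ((res E).obj X).d 0 1 = cokernel.π ((η E).app X) ≫ (η E).app ((Q E).obj X) :=
    CochainComplex.of_d _ (fun n => (resD E n).app X) 0
  rw [ShortComplex.exact_iff_exact_up_to_refinements]
  intro W z hz
  have hz' : z ≫ cokernel.π ((η E).app X) = 0 :=
    (cancel_mono ((η E).app ((Q E).obj X))).1 ((Category.assoc _ _ _).trans (((congrArg (z ≫ ·) e1).symm.trans hz).trans zero_comp.symm))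
  exact (ShortComplex.exact_of_g_is_cokernel (ShortComplex.mk _ _ (cokernel.condition ((η E).app X)))
    (cokernelIsCokernel _)).exact_up_to_refinements z hz'

end Groth.Agent.EtEff48.InjFun
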