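import Groth.Agent.EtEff48.Desc.InjFunctor
import Groth.Agent.EtEff48.Desc.DblSS

/-!
# The spectral sequence of a resolution
-/

set_option autoImplicit false
set_option linter.style.haveILetI false
set_option backward.isDefEq.respectTransparency false
set_option backward.isDefEq.respectTransparency.types false

universe v u

open CategoryTheory CategoryTheory.Limits Abelian

namespace Groth.Agent.EtEff48.ResSS

variable {A : Type u} [Category.{v} A] [Abelian A]

theorem quasiIso_eval {ι T : Type*} {c₁ : ComplexShape ι} {c₂ : ComplexShape T}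
    {K L : HomologicalComplex₂ A c₁ c₂} (φ : K ⟶ L)
    (h : ∀ i, QuasiIso (φ.f i)) : QuasiIso ((HomologicalComplex₂.flipFunctor A c₁ c₂).map φ) := by
  rw [quasiIso_iff]
  intro q
  rw [quasiIsoAt_iff, ShortComplex.quasiIso_iff]
  have : ∀ p, IsIso ((HomologicalComplex.eval A c₁ p).map (ShortComplex.homologyMap
      ((HomologicalComplex.shortComplexFunctor (HomologicalComplex A c₁) c₂ q).map
        ((HomologicalComplex₂.flipFunctor A c₁ c₂).map φ)))) := fun p =>
    ((MorphismProperty.isomorphisms A).arrow_mk_iso_iff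
      (((Functor.mapArrowFunctor _ _).mapIso
      ((ShortComplex.homologyFunctorIso (HomologicalComplex.eval A c₁ p)))).app (Arrow.mk _))).1
        ((ShortComplex.quasiIso_iff _).1 ((quasiIsoAt_iff _ _).1 ((quasiIso_iff _).1 (h p) q)))
  haveI : ∀ p, IsIso ((ShortComplex.homologyMap ((HomologicalComplex.shortComplexFunctor (HomologicalComplex A c₁) c₂ q).map
        ((HomologicalComplex₂.flipFunctor A c₁ c₂).map φ))).f p) := this
  exact HomologicalComplex.Hom.isIso_of_components _

variable (E : A) [Injective E] [HasProducts.{v} A]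

/-- The resolution, in integer degrees. -/
noncomputable abbrev resZ : A ⥤ CochainComplex A ℤ := InjFun.res E ⋙ ComplexShape.embeddingUpNat.extendFunctor A

instance : (resZ E).PreservesZeroMorphisms := inferInstance

theorem isZero_resZ (X : A) {q : ℤ} (hq : q < 0) : IsZero (((resZ E).obj X).X q) :=
  HomologicalComplex.isZero_extend_X _ _ _ fun i h => by
    have : (i : ℤ) = q := h
    omega

theorem injective_resZ (X : A) (q : ℤ) : Injective (((resZ E).obj X).X q) := by
  rcases lt_or_ge q 0 with hq | hq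
  · exact (isZero_resZ E X hq).injective
  · obtain ⟨m, rfl⟩ := Int.eq_ofNat_of_zero_le hq
    exact Injective.of_iso (HomologicalComplex.extendXIso ((InjFun.res E).obj X) ComplexShape.embeddingUpNat (i := m) rfl).symm
      inferInstance

/-- The augmentation, on `ℕ`. -/
noncomputable def augN (X : A) : (CochainComplex.single₀ A).obj X ⟶ (InjFun.res E).obj X :=
  (CochainComplex.fromSingle₀Equiv _ _).symm ⟨InjFun.ε E X, InjFun.ε_comp_d E X⟩

/-- The augmentation. -/
noncomputable def augZ : CochainComplex.singleFunctor A 0 ⟶ resZ E where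
  app X := (HomologicalComplex.extendSingleIso ComplexShape.embeddingUpNat X 0 0 rfl).inv ≫
    HomologicalComplex.extendMap (augN E X) ComplexShape.embeddingUpNat
  naturality X Y f := by
    refine HomologicalComplex.from_single_hom_ext ?_
    simp [augN, HomologicalComplex.extendSingleIso, InjFun.ε_natural, HomologicalComplex.extendMap_f (i := 0) (i' := (0 : ℤ))]
    rw [reassoc_of% (InjFun.ε_natural E f)]
    exact HomologicalComplex.single_map_f_self_assoc _ _ _ _ |>.trans (by simp)

theorem quasiIso_augN (hE : IsCoseparator E) (X : A) : QuasiIso (augN E X) := by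
  rw [quasiIso_iff]
  intro i
  obtain ⟨hm, hex⟩ := InjFun.exact_zero E hE X
  rcases i with _ | i
  · rw [CochainComplex.quasiIsoAt₀_iff, ShortComplex.quasiIso_iff_of_zeros] <;> try rfl
    refine ⟨?_, by simpa [augN] using hm⟩
    convert hex using 2 <;> first | rfl | simp [augN] | exact heq_of_eq (by simp [augN])
  · rw [quasiIsoAt_iff_exactAt]
    · exact InjFun.exactAt_succ E hE X i
    · exact CochainComplex.exactAt_succ_single_obj X i

variable [HasProducts.{0} A] [HasCoproducts.{0} A] [HasExt.{v} A] [EnoughInjectives A]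

include E in
/-- The spectral sequence of a resolution. -/
theorem exists_spectralSequence (hE : IsCoseparator E) (Z F : A) (C : CochainComplex A ℕ)
    (ι : (CochainComplex.single₀ A).obj F ⟶ C) [QuasiIso ι]
    (E₁ : ℤ → ℤ → AddCommGrpCat.{v})
    (hE₁ : ∀ p q : ℕ, Nonempty (AddCommGrpCat.of (Ext Z (C.X p) q) ≅ E₁ p q))
    (hE₁' : ∀ p q : ℤ, p < 0 ∨ q < 0 → IsZero (E₁ p q))
    (H : ℤ → AddCommGrpCat.{v}) (hH : ∀ n : ℕ, Nonempty (AddCommGrpCat.of (Ext Z F n) ≅ H n))
    (hH' : ∀ n : ℤ, n < 0 → IsZero (H n)) :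
    ∃ (E : CohomologicalSpectralSequence AddCommGrpCat.{v} 1) (a : SpSeq.Abutment E H),
      (∀ n, a.IsFinite n) ∧ SpSeq.IsBounded E ∧
      ∀ p q : ℤ, Nonempty ((E.page 1 le_rfl).X (p, q) ≅ E₁ p q) := by
  let G : A ⥤ CochainComplex A ℤ := HomologicalComplex.single A (ComplexShape.up ℤ) 0
  let C' : CochainComplex A ℤ := C.extend ComplexShape.embeddingUpNat
  let ι' : G.obj F ⟶ C' := (HomologicalComplex.extendSingleIso ComplexShape.embeddingUpNat F 0 0 rfl).inv ≫
    HomologicalComplex.extendMap ι ComplexShape.embeddingUpNat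
  haveI : QuasiIso (HomologicalComplex.extendMap ι ComplexShape.embeddingUpNat) :=
    (HomologicalComplex.quasiIso_extendMap_iff _ _).2 inferInstance
  haveI : QuasiIso ι' := inferInstanceAs (QuasiIso (_ ≫ _))
  let SF : HomologicalComplex₂ A (ComplexShape.up ℤ) (ComplexShape.up ℤ) :=
    (G.mapHomologicalComplex _).obj (G.obj F)
  let K₀ : HomologicalComplex₂ A (ComplexShape.up ℤ) (ComplexShape.up ℤ) := (G.mapHomologicalComplex _).obj C'
  let K : HomologicalComplex₂ A (ComplexShape.up ℤ) (ComplexShape.up ℤ) :=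
    ((resZ E).mapHomologicalComplex _).obj C'
  let φ : K₀ ⟶ K := (NatTrans.mapHomologicalComplex (augZ E) _).app C'
  have hC' : ∀ p : ℤ, p < 0 → IsZero (C'.X p) := fun p hp => HomologicalComplex.isZero_extend_X _ _ _ fun i h => by
    have : (i : ℤ) = p := h
    omega
  have hK : ∀ p q : ℤ, p < 0 ∨ q < 0 → IsZero ((K.X p).X q) := fun p q h => by
    rcases h with h | h
    · exact (HomologicalComplex.eval A (ComplexShape.up ℤ) q).map_isZero ((resZ E).map_isZero (hC' p h))
    · exact isZero_resZ E _ h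
  have hK₀ : ∀ p q : ℤ, p < 0 ∨ q < 0 → IsZero ((K₀.X p).X q) := fun p q h => by
    rcases h with h | h
    · exact (HomologicalComplex.eval A (ComplexShape.up ℤ) q).map_isZero (G.map_isZero (hC' p h))
    · exact HomologicalComplex.isZero_single_obj_X _ _ _ _ (by omega)
  have hSF : ∀ p q : ℤ, p < 0 ∨ q < 0 → IsZero ((SF.X p).X q) := fun p q h => by
    rcases h with h | h
    · exact (HomologicalComplex.eval A (ComplexShape.up ℤ) q).map_isZero
        (G.map_isZero (HomologicalComplex.isZero_single_obj_X _ _ _ _ (by omega)))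
    · exact HomologicalComplex.isZero_single_obj_X _ _ _ _ (by omega)
  -- step 1
  let ψ : SF ⟶ K₀ := (G.mapHomologicalComplex _).map ι'
  haveI : QuasiIso ψ := by
    haveI : (HomologicalComplex.single A (ComplexShape.up ℤ) 0).PreservesHomology := inferInstance
    exact HomologicalComplex.quasiIso_map_of_preservesHomology ι' _
  haveI : QuasiIso (HomologicalComplex₂.total.map ψ (ComplexShape.up ℤ)) :=
    Der55.quasiIso_total_map ψ 0 0 hSF hK₀
  -- step 2
  let φ' := (HomologicalComplex₂.flipFunctor A (ComplexShape.up ℤ) (ComplexShape.up ℤ)).map φ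
  haveI : QuasiIso φ' := quasiIso_eval φ fun p => by
    show QuasiIso ((HomologicalComplex.extendSingleIso ComplexShape.embeddingUpNat (C'.X p) 0 0 rfl).inv ≫
      HomologicalComplex.extendMap (augN E (C'.X p)) ComplexShape.embeddingUpNat)
    haveI := (HomologicalComplex.quasiIso_extendMap_iff (augN E (C'.X p)) ComplexShape.embeddingUpNat).2
      (quasiIso_augN E hE (C'.X p))
    infer_instance
  haveI : QuasiIso (HomologicalComplex₂.total.map φ' (ComplexShape.up ℤ)) :=
    Der55.quasiIso_total_map φ' 0 0 (fun p q h => hK₀ q p h.symm) (fun p q h => hK q p h.symm)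
  -- the total complex of a single object
  haveI := DblSS.isStrictlyGE_total SF hSF
  have hpt : ∀ p q : ℤ, ¬ (p = 0 ∧ q = 0) → IsZero ((SF.X p).X q) := fun p q h => by
    by_cases hp : p = 0
    · exact HomologicalComplex.isZero_single_obj_X _ _ _ _ fun hq => h ⟨hp, hq⟩
    · exact (HomologicalComplex.eval A (ComplexShape.up ℤ) q).map_isZero
        (G.map_isZero (HomologicalComplex.isZero_single_obj_X _ _ _ _ hp))
  let e00 : (SF.X 0).X 0 ≅ F :=
    HomologicalComplex.singleObjXSelf (ComplexShape.up ℤ) 0 _ ≪≫ HomologicalComplex.singleObjXSelf (ComplexShape.up ℤ) 0 F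
  let ι₀ : G.obj F ⟶ SF.total (ComplexShape.up ℤ) :=
    HomologicalComplex.mkHomFromSingle (e00.inv ≫ SF.ιTotal (ComplexShape.up ℤ) 0 0 0 rfl) fun j (hj : (0 : ℤ) + 1 = j) => by
      subst hj
      refine Eq.trans (Category.assoc _ _ _) (Eq.trans (congrArg (e00.inv ≫ ·) ?_) comp_zero)
      refine Der55.eq_zero_of_totπ SF 0 0 hSF _ fun p q hpq => (hpt p q (by omega)).eq_of_tgt _ _
  haveI : IsIso ι₀ := by
    haveI : ∀ n, IsIso (ι₀.f n) := fun n => by
      by_cases hn : n = 0
      · subst hn
        rw [HomologicalComplex.mkHomFromSingle_f]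
        haveI : IsIso (SF.ιTotal (ComplexShape.up ℤ) 0 0 0 rfl) :=
          ⟨Der55.totπ SF 0 0 0 rfl, Der55.ι_totπ_self SF 0 0 0 rfl, by
            rw [DblSS.id_total SF hSF 0, Finset.Icc_self, Finset.sum_singleton]
            rfl⟩
        infer_instance
      · refine IsZero.isIso ?_ ?_ _
        · exact HomologicalComplex.isZero_single_obj_X _ _ _ _ hn
        · rw [IsZero.iff_id_eq_zero, DblSS.id_total SF hSF n]
          exact Finset.sum_eq_zero fun p hp => by
            rw [(hpt p (n - p) (by omega)).eq_of_tgt (Der55.totπ SF p (n - p) n (by omega)) 0, zero_comp]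
    exact HomologicalComplex.Hom.isIso_of_components ι₀
  let ιT : G.obj F ⟶ K.total (ComplexShape.up ℤ) :=
    ι₀ ≫ HomologicalComplex₂.total.map ψ (ComplexShape.up ℤ) ≫ (K₀.totalFlipIso (ComplexShape.up ℤ)).inv ≫
      HomologicalComplex₂.total.map φ' (ComplexShape.up ℤ) ≫ (K.totalFlipIso (ComplexShape.up ℤ)).hom
  haveI : QuasiIso ιT := inferInstanceAs (QuasiIso (_ ≫ _ ≫ _ ≫ _ ≫ _))
  refine DblSS.exists_spectralSequence K hK (fun p q => injective_resZ E _ q) Z F ιT E₁ (fun p q => ?_) H hH hH'
  by_cases h : p < 0 ∨ q < 0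
  · refine ⟨IsZero.iso ?_ (hE₁' p q h)⟩
    refine (HomologicalComplex.exactAt_iff_isZero_homology _ _).1 (HomologicalComplex.ExactAt.of_isZero ?_)
    exact (preadditiveCoyoneda.obj (Opposite.op Z)).map_isZero (hK p q h)
  · simp only [not_or, not_lt] at h
    obtain ⟨p, rfl⟩ := Int.eq_ofNat_of_zero_le h.1
    obtain ⟨q, rfl⟩ := Int.eq_ofNat_of_zero_le h.2
    haveI : QuasiIso ((augZ E).app (C'.X p)) := by
      haveI := (HomologicalComplex.quasiIso_extendMap_iff (augN E (C'.X p)) ComplexShape.embeddingUpNat).2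
        (quasiIso_augN E hE (C'.X p))
      exact inferInstanceAs (QuasiIso (_ ≫ _))
    haveI : CochainComplex.IsStrictlyGE ((resZ E).obj (C'.X p)) 0 := by
      rw [CochainComplex.isStrictlyGE_iff]
      exact fun n hn => isZero_resZ E _ hn
    obtain ⟨e⟩ := TopDesc98.nonempty_rightDerived_iso_of_resolution (preadditiveCoyoneda.obj (Opposite.op Z))
      (C'.X p) ((resZ E).obj (C'.X p)) ((augZ E).app (C'.X p))
      (fun n => haveI := injective_resZ E (C'.X p) n; TriCat.isRightAcyclic_of_injective (F := preadditiveCoyoneda.obj (Opposite.op Z)) _) q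
    obtain ⟨e₁⟩ := hE₁ p q
    exact ⟨e ≪≫ Groth.Agent.SpObjSS.rightDerivedHomFromIso Z q (C'.X p) ≪≫
      (Abelian.extFunctorObj Z q).mapIso (C.extendXIso ComplexShape.embeddingUpNat (i := p) rfl) ≪≫ e₁⟩

end Groth.Agent.EtEff48.ResSS
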