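import Groth.Agent.EtEff48.Desc.BaseChange
import Groth.Agent.EtEff48.Desc.ResSS
import Groth.Agent.EtEff48.SectionSS
import Groth.Agent.EtFound.PushExact
import Groth.Agent.EtFound.Detect
import Groth.Agent.EtFound.FieldExt
import Groth.Agent.SiteBase.ExtCompare

/-!
# Cohomological descent along integral surjective morphisms
-/

set_option autoImplicit false
set_option backward.isDefEq.respectTransparency false
set_option backward.isDefEq.respectTransparency.types false

universe u

open CategoryTheory CategoryTheory.Limits CategoryTheory.Abelian AlgebraicGeometry Opposite Simplicial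

namespace Groth.Agent.EtEff48.IntDesc

section Contract

variable {A B : Type*} [Category* A] [Category* B] [Abelian A] [Abelian B] (Φ : A ⥤ B) [Φ.Additive]
  (M : SimplicialObject.Augmented Aᵒᵖ)

/-- The augmentation. -/
noncomputable abbrev aug : M.right.unop ⟶ (M.left.obj (op ⦋0⦌)).unop := (M.hom.app (op ⦋0⦌)).unop

/-- The differentials. -/
noncomputable abbrev dd (p : ℕ) : (M.left.obj (op ⦋p⦌)).unop ⟶ (M.left.obj (op ⦋p + 1⦌)).unop :=
  ((AlgebraicTopology.AlternatingFaceMapComplex.obj M.left).d (p + 1) p).unop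

theorem aug_dd : aug M ≫ dd M 0 = 0 := by
  have h := (AlgebraicTopology.AlternatingFaceMapComplex.ε.app M).comm 1 0
  rw [AlgebraicTopology.AlternatingFaceMapComplex.ε_app_f_succ, zero_comp,
    AlgebraicTopology.AlternatingFaceMapComplex.ε_app_f_zero] at h
  exact unop_comp.symm.trans ((congrArg Quiver.Hom.unop h.symm).trans (unop_zero _ _))

theorem dd_dd (p : ℕ) : dd M p ≫ dd M (p + 1) = 0 :=
  unop_comp.symm.trans ((congrArg Quiver.Hom.unop
    ((AlgebraicTopology.AlternatingFaceMapComplex.obj M.left).d_comp_d (p + 1 + 1) (p + 1) p)).trans (unop_zero _ _))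

theorem dd_map (p : ℕ) :
    dd (((SimplicialObject.Augmented.whiskering _ _).obj Φ.op).obj M) p = Φ.map (dd M p) := by
  show ((AlgebraicTopology.AlternatingFaceMapComplex.obj (M.left ⋙ Φ.op)).d (p + 1) p).unop = _
  simp [dd, AlgebraicTopology.AlternatingFaceMapComplex.obj_d_eq, Functor.map_sum, Functor.map_zsmul, SimplicialObject.δ]

theorem aug_map : aug (((SimplicialObject.Augmented.whiskering _ _).obj Φ.op).obj M) = Φ.map (aug M) := by
  simp [aug, SimplicialObject.Augmented.whiskering, SimplicialObject.Augmented.whiskeringObj]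

theorem exact_congr {C : Type*} [Category* C] [Abelian C] {X₁ X₂ X₃ : C} {a a' : X₁ ⟶ X₂} {b b' : X₂ ⟶ X₃}
    (ha : a = a') (hb : b = b') (w : a ≫ b = 0) (w' : a' ≫ b' = 0) (h : (ShortComplex.mk a b w).Exact) :
    (ShortComplex.mk a' b' w').Exact := by
  subst ha hb
  exact h

theorem contract_self (ed : M.ExtraDegeneracy) :
    Mono (aug M) ∧ (ShortComplex.mk (aug M) (dd M 0) (aug_dd M)).Exact ∧
      ∀ p, (ShortComplex.mk (dd M p) (dd M (p + 1)) (dd_dd M p)).Exact := by
  let e := ed.homotopyEquiv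
  refine ⟨?_, ?_, fun p => ?_⟩
  · exact SplitMono.mono ⟨ed.s'.unop, unop_comp.symm.trans (congrArg Quiver.Hom.unop ed.s'_comp_ε)⟩
  · rw [ShortComplex.exact_iff_exact_up_to_refinements]
    intro W x hx
    refine ⟨W, 𝟙 W, inferInstance, x ≫ (e.inv.f 0).unop, ?_⟩
    have hc := e.homotopyHomInvId.comm 0
    rw [Homotopy.prevD_chainComplex, Homotopy.dNext_zero_chainComplex, zero_add] at hc
    have hc' := congrArg (fun z => x ≫ Quiver.Hom.unop z) hc
    simp only [unop_add, unop_comp, HomologicalComplex.comp_f, HomologicalComplex.id_f, unop_id, Preadditive.comp_add] at hc'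
    erw [reassoc_of% hx] at hc'
    simp only [zero_comp, zero_add, Category.comp_id] at hc'
    have he : (e.hom.f 0).unop = aug M :=
      congrArg Quiver.Hom.unop (AlgebraicTopology.AlternatingFaceMapComplex.ε_app_f_zero M)
    rw [he] at hc'
    refine (Category.id_comp _).trans (Eq.trans ?_ (Category.assoc _ _ _).symm)
    exact (Category.comp_id x).symm.trans hc'.symm
  · rw [ShortComplex.exact_iff_exact_up_to_refinements]
    intro W x hx
    have hc := e.homotopyHomInvId.comm (p + 1)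
    rw [Homotopy.prevD_chainComplex, Homotopy.dNext_succ_chainComplex] at hc
    have h0 : (e.hom ≫ e.inv).f (p + 1) = 0 := by
      rw [HomologicalComplex.comp_f]
      exact (HomologicalComplex.isZero_single_obj_X _ _ _ _ (Nat.succ_ne_zero p)).eq_of_tgt (e.hom.f (p + 1)) 0 ▸ zero_comp
    rw [h0] at hc
    have hc' := congrArg (fun z => x ≫ Quiver.Hom.unop z) hc
    simp only [unop_add, unop_comp, HomologicalComplex.id_f, unop_id, unop_zero, Preadditive.comp_add, comp_zero] at hc'
    erw [reassoc_of% hx] at hc'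
    simp only [zero_comp, add_zero, Category.comp_id] at hc'
    refine ⟨W, 𝟙 W, inferInstance, -(x ≫ (e.homotopyHomInvId.hom p (p + 1)).unop), ?_⟩
    refine (Category.id_comp _).trans (Eq.trans ?_ ((Preadditive.neg_comp _ _).trans
      (congrArg Neg.neg (Category.assoc _ _ _))).symm)
    refine eq_neg_iff_add_eq_zero.2 ((add_comm _ _).trans (Eq.trans ?_ hc'.symm))
    exact congrArg (_ + ·) (Category.comp_id x).symm

theorem contract (ed : (((SimplicialObject.Augmented.whiskering _ _).obj Φ.op).obj M).ExtraDegeneracy) :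
    Mono (Φ.map (aug M)) ∧
      (ShortComplex.mk (Φ.map (aug M)) (Φ.map (dd M 0)) (by rw [← Φ.map_comp, aug_dd, Φ.map_zero])).Exact ∧
      ∀ p, (ShortComplex.mk (Φ.map (dd M p)) (Φ.map (dd M (p + 1))) (by rw [← Φ.map_comp, dd_dd, Φ.map_zero])).Exact := by
  obtain ⟨h1, h2, h3⟩ := contract_self _ ed
  exact ⟨aug_map Φ M ▸ h1, exact_congr (aug_map Φ M) (dd_map Φ M 0) _ _ h2,
    fun p => exact_congr (dd_map Φ M p) (dd_map Φ M (p + 1)) _ _ (h3 p)⟩

/-- The cochain complex of an augmented cosimplicial object. -/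
noncomputable abbrev cx : CochainComplex A ℕ :=
  CochainComplex.of (fun p => (M.left.obj (op ⦋p⦌)).unop) (dd M) (dd_dd M)

/-- The augmentation into it. -/
noncomputable def cxι : (CochainComplex.single₀ _).obj M.right.unop ⟶ cx M :=
  (CochainComplex.fromSingle₀Equiv _ _).symm ⟨aug M, by
    exact (congrArg (aug M ≫ ·) (CochainComplex.of_d _ (dd M) 0)).trans (aug_dd _)⟩

theorem quasiIso_cxι (hm : Mono (aug M)) (h0 : (ShortComplex.mk (aug M) (dd M 0) (aug_dd M)).Exact)
    (hs : ∀ p, (ShortComplex.mk (dd M p) (dd M (p + 1)) (dd_dd M p)).Exact) : QuasiIso (cxι M) := by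
  have he : (cxι M).f 0 = aug M := CochainComplex.fromSingle₀Equiv_symm_apply_f_zero _ _
  rw [quasiIso_iff]
  intro i
  rcases i with _ | i
  · rw [CochainComplex.quasiIsoAt₀_iff, ShortComplex.quasiIso_iff_of_zeros] <;> try rfl
    refine ⟨exact_congr he.symm (CochainComplex.of_d _ (dd M) 0).symm _ _ h0, ?_⟩
    show Mono ((cxι M).f 0)
    rwa [he]
  · rw [quasiIsoAt_iff_exactAt]
    · rw [(cx M).exactAt_iff' i (i + 1) (i + 1 + 1) (by simp) (by simp)]
      exact exact_congr (CochainComplex.of_d _ (dd M) i).symm (CochainComplex.of_d _ (dd M) (i + 1)).symm _ _ (hs i)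
    · exact CochainComplex.exactAt_succ_single_obj _ i

end Contract

variable {X Y Y' Z : Scheme.{u}}

theorem eq_zero_of_pull {G G' : EtCoh.Ab Y} (a : G ⟶ G')
    (h : ∀ (Ω : Type u) [Field Ω] [IsAlgClosed Ω] (η : Spec (CommRingCat.of Ω) ⟶ Y), (EtCoh.pull η).map a = 0) : a = 0 := by
  refine EtFound.eq_of_stalks _ _ fun k _ _ ξ => ?_
  let Ω := AlgebraicClosure k
  let l : Spec (CommRingCat.of Ω) ⟶ Spec (CommRingCat.of k) := Spec.map (CommRingCat.ofHom (algebraMap k Ω))
  rw [← cancel_mono ((EtFound.stalkExtIso AddCommGrpCat.{u + 1} ξ l).hom.app G'), NatTrans.naturality,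
    NatTrans.naturality]
  congr 1
  let i := EtFound.sheafFiberPullIso (A := AddCommGrpCat.{u + 1}) (l ≫ ξ) (𝟙 _)
  have key : (Scheme.pointSmallEtale (𝟙 _ ≫ l ≫ ξ)).sheafFiber.map a =
      (Scheme.pointSmallEtale (𝟙 _ ≫ l ≫ ξ)).sheafFiber.map (0 : G ⟶ G') := by
    rw [← cancel_epi (i.hom.app G), ← i.hom.naturality, ← i.hom.naturality]
    congr 1
    show (Scheme.pointSmallEtale (𝟙 _)).sheafFiber.map ((EtCoh.pull (l ≫ ξ)).map a) =
      (Scheme.pointSmallEtale (𝟙 _)).sheafFiber.map ((EtCoh.pull (l ≫ ξ)).map 0)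
    rw [h Ω (l ≫ ξ)]
    exact (congrArg _ ((EtCoh.pull (l ≫ ξ)).map_zero G G')).symm
  rwa [Category.id_comp] at key

theorem exact_of_pull (S : ShortComplex (EtCoh.Ab Y))
    (h : ∀ (Ω : Type u) [Field Ω] [IsAlgClosed Ω] (η : Spec (CommRingCat.of Ω) ⟶ Y), (S.map (EtCoh.pull η)).Exact) :
    S.Exact := by
  rw [ShortComplex.exact_iff_isZero_homology, IsZero.iff_id_eq_zero]
  refine eq_zero_of_pull _ fun Ω _ _ η => IsZero.eq_of_src ?_ _ _
  haveI : PreservesFiniteLimits (EtCoh.pull η) := HFun.pullPFL η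
  exact ((ShortComplex.exact_iff_isZero_homology _).1 (h Ω η)).of_iso (S.mapHomologyIso (EtCoh.pull η)).symm

theorem mono_of_pull {G G' : EtCoh.Ab Y} (a : G ⟶ G')
    (h : ∀ (Ω : Type u) [Field Ω] [IsAlgClosed Ω] (η : Spec (CommRingCat.of Ω) ⟶ Y), Mono ((EtCoh.pull η).map a)) :
    Mono a :=
  Preadditive.mono_of_cancel_zero _ fun {W} c hc => eq_zero_of_pull c fun Ω _ _ η => by
    have := h Ω η
    rw [← cancel_mono ((EtCoh.pull η).map a), ← Functor.map_comp, hc, Functor.map_zero, zero_comp]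

variable (f : X ⟶ Y) (F : EtCoh.Ab Y)

/-- The Čech nerve, over the base. -/
noncomputable abbrev N : SimplicialObject.Augmented (Over Y) := SectSS.overAug (Arrow.mk f).augmentedCechNerve

/-- The augmented cosimplicial sheaf. -/
noncomputable abbrev M : SimplicialObject.Augmented (EtCoh.Ab Y)ᵒᵖ :=
  ((SimplicialObject.Augmented.whiskering _ _).obj (PP.Q F (𝟙 Y))).obj (N f)

theorem isIntegralHom_base [IsIntegralHom f] : ∀ n : ℕ,
    IsIntegralHom (WidePullback.base (fun _ : Fin (n + 1) => f) : widePullback Y (fun _ : Fin (n + 1) => X) (fun _ => f) ⟶ Y) := by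
  intro n
  induction n with
  | zero =>
    let s : X ⟶ widePullback Y (fun _ : Fin 1 => X) (fun _ => f) := WidePullback.lift f (fun _ => 𝟙 X) fun _ => Category.id_comp _
    have hs : WidePullback.π (fun _ : Fin 1 => f) 0 ≫ s = 𝟙 _ := by
      refine WidePullback.hom_ext _ _ _ (fun j => ?_) ?_
      · obtain rfl : j = 0 := Subsingleton.elim (α := Fin 1) _ _
        simp [s]
      · simp [s]
    haveI : IsIso (WidePullback.π (fun _ : Fin 1 => f) 0) := ⟨s, hs, by simp [s]⟩
    rw [← WidePullback.π_arrow (fun _ : Fin 1 => f) 0]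
    infer_instance
  | succ n ih =>
    haveI := ih
    let r : widePullback Y (fun _ : Fin (n + 1 + 1) => X) (fun _ => f) ⟶
        widePullback Y (fun _ : Fin (n + 1) => X) (fun _ => f) :=
      WidePullback.lift (WidePullback.base _) (fun j => WidePullback.π _ j.succ) fun j => WidePullback.π_arrow _ _
    let m := pullback.lift (f := f) (g := WidePullback.base (fun _ : Fin (n + 1) => f))
      (WidePullback.π (fun _ : Fin (n + 1 + 1) => f) 0) r
      ((WidePullback.π_arrow _ _).trans (WidePullback.lift_base _ _ _ _).symm)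
    let w : pullback f (WidePullback.base (fun _ : Fin (n + 1) => f)) ⟶
        widePullback Y (fun _ : Fin (n + 1 + 1) => X) (fun _ => f) :=
      WidePullback.lift (pullback.fst _ _ ≫ f) (Fin.cases (pullback.fst _ _) fun j => pullback.snd _ _ ≫ WidePullback.π _ j)
        fun j => by
          cases j using Fin.cases with
          | zero => rfl
          | succ j => exact (Category.assoc _ _ _).trans ((congrArg (_ ≫ ·) (WidePullback.π_arrow _ _)).trans pullback.condition.symm)
    have h1 : m ≫ w = 𝟙 _ := by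
      refine WidePullback.hom_ext _ _ _ (fun j => ?_) ?_
      · cases j using Fin.cases <;> simp [m, w, r]
      · simp [m, w]
    have h2 : w ≫ m = 𝟙 _ := by
      refine pullback.hom_ext ?_ (WidePullback.hom_ext _ _ _ (fun j => ?_) ?_)
      · simp [m, w]
      · simp [m, w, r]
      · simp [m, w, r, pullback.condition]
    haveI : IsIso m := ⟨w, h1, h2⟩
    have : (WidePullback.base (fun _ : Fin (n + 1 + 1) => f)) = m ≫ pullback.fst _ _ ≫ f := by
      simp [m]
    rw [this]
    infer_instance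

section Point

variable {η : Y' ⟶ Y}

theorem ext_fst {W : Over Y'} {T : Over Y} {a b : W ⟶ (Over.pullback η).obj T}
    (h : a.left ≫ pullback.fst T.hom η = b.left ≫ pullback.fst T.hom η) : a = b :=
  Over.OverMorphism.ext (pullback.hom_ext h ((Over.w a).trans (Over.w b).symm))

theorem pb_map_fst {S T : Over Y} (k : S ⟶ T) :
    ((Over.pullback η).map k).left ≫ pullback.fst T.hom η = pullback.fst S.hom η ≫ k.left :=
  pullback.lift_fst _ _ _

variable (ξ : Y' ⟶ X) (hξ : ξ ≫ f = η)

/-- The section of the augmentation over the point. -/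
noncomputable def pbS' : (Over.pullback η).obj (N f).right ⟶ (Over.pullback η).obj ((N f).left.obj (op ⦋0⦌)) :=
  Over.homMk (pullback.lift (pullback.snd (N f).right.hom η ≫ WidePullback.lift η (fun _ => ξ) (fun _ => hξ))
      (pullback.snd (N f).right.hom η) ((Category.assoc _ _ _).trans (congrArg (_ ≫ ·) (WidePullback.lift_base (fun _ : Fin 1 => f) η (fun _ => ξ) fun _ => hξ))))
    (pullback.lift_snd _ _ _)

/-- The extra degeneracy over the point. -/
noncomputable def pbS (n : ℕ) :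
    (Over.pullback η).obj ((N f).left.obj (op ⦋n⦌)) ⟶ (Over.pullback η).obj ((N f).left.obj (op ⦋n + 1⦌)) :=
  Over.homMk (pullback.lift
      (WidePullback.lift (B := Y) (objs := fun _ : Fin (n + 1 + 1) => X) (arrows := fun _ => f)
        (pullback.snd ((N f).left.obj (op ⦋n⦌)).hom η ≫ η)
        (Fin.cases (pullback.snd ((N f).left.obj (op ⦋n⦌)).hom η ≫ ξ)
          fun i => pullback.fst ((N f).left.obj (op ⦋n⦌)).hom η ≫ WidePullback.π (fun _ : Fin (n + 1) => f) i)
        (fun i => by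
          cases i using Fin.cases with
          | zero => exact (Category.assoc _ _ _).trans (congrArg (_ ≫ ·) hξ)
          | succ i => exact (Category.assoc _ _ _).trans ((congrArg (_ ≫ ·) (WidePullback.π_arrow _ _)).trans pullback.condition)))
      (pullback.snd ((N f).left.obj (op ⦋n⦌)).hom η)
      (by exact WidePullback.lift_base _ _ _ _)) (pullback.lift_snd _ _ _)

theorem pbS'_fst : (pbS' f ξ hξ).left ≫ pullback.fst ((N f).left.obj (op ⦋0⦌)).hom η =
    pullback.snd (N f).right.hom η ≫ WidePullback.lift η (fun _ => ξ) (fun _ => hξ) :=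
  pullback.lift_fst _ _ _

theorem pbS_π_zero (n : ℕ) : (pbS f ξ hξ n).left ≫ pullback.fst ((N f).left.obj (op ⦋n + 1⦌)).hom η ≫
    WidePullback.π (fun _ : Fin (n + 1 + 1) => f) 0 = pullback.snd ((N f).left.obj (op ⦋n⦌)).hom η ≫ ξ :=
  (Category.assoc _ _ _).symm.trans ((congrArg (· ≫ _) (pullback.lift_fst _ _ _)).trans (WidePullback.lift_π _ _ _ _ 0))

theorem pbS_π_succ (n : ℕ) (i : Fin (n + 1)) : (pbS f ξ hξ n).left ≫
    pullback.fst ((N f).left.obj (op ⦋n + 1⦌)).hom η ≫ WidePullback.π (fun _ : Fin (n + 1 + 1) => f) i.succ =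
      pullback.fst ((N f).left.obj (op ⦋n⦌)).hom η ≫ WidePullback.π (fun _ : Fin (n + 1) => f) i :=
  (Category.assoc _ _ _).symm.trans ((congrArg (· ≫ _) (pullback.lift_fst _ _ _)).trans (WidePullback.lift_π _ _ _ _ i.succ))

/-- The simplicial structure, on a projection. -/
theorem N_map_π {a b : SimplexCategory} (k : a ⟶ b) (j : Fin (a.len + 1)) :
    ((N f).left.map k.op).left ≫ WidePullback.π (fun _ : Fin (a.len + 1) => f) j =
      WidePullback.π (fun _ : Fin (b.len + 1) => f) (k.toOrderHom j) :=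
  WidePullback.lift_π _ _ _ _ j

theorem N_base (n : ℕ) : ((N f).left.obj (op ⦋n⦌)).hom = WidePullback.base (fun _ : Fin (n + 1) => f) :=
  rfl

/-- A test for maps into the base changed nerve. -/
theorem ext_π {W : Over Y'} {n : ℕ} {a b : W ⟶ (Over.pullback η).obj ((N f).left.obj (op ⦋n⦌))}
    (h : ∀ j, a.left ≫ pullback.fst ((N f).left.obj (op ⦋n⦌)).hom η ≫ WidePullback.π (fun _ : Fin (n + 1) => f) j =
      b.left ≫ pullback.fst ((N f).left.obj (op ⦋n⦌)).hom η ≫ WidePullback.π (fun _ : Fin (n + 1) => f) j) : a = b := by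
  refine ext_fst (WidePullback.hom_ext _ _ _ (fun j => (Category.assoc _ _ _).trans ((h j).trans (Category.assoc _ _ _).symm)) ?_)
  have e : ∀ c : W ⟶ (Over.pullback η).obj ((N f).left.obj (op ⦋n⦌)),
      (c.left ≫ pullback.fst ((N f).left.obj (op ⦋n⦌)).hom η) ≫ WidePullback.base (fun _ : Fin (n + 1) => f) = W.hom ≫ η :=
    fun c => (Category.assoc _ _ _).trans ((congrArg (_ ≫ ·) ((congrArg (pullback.fst _ η ≫ ·) (N_base f n).symm).trans
      pullback.condition)).trans ((Category.assoc _ _ _).symm.trans (congrArg (· ≫ η) (Over.w c))))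
  exact (e a).trans (e b).symm

theorem pb_map_π {S : Over Y'} {a b : SimplexCategory} (k : a ⟶ b)
    (c : S ⟶ (Over.pullback η).obj ((N f).left.obj (op b))) (j : Fin (a.len + 1)) :
    (c ≫ (Over.pullback η).map ((N f).left.map k.op)).left ≫ pullback.fst ((N f).left.obj (op a)).hom η ≫
        WidePullback.π (fun _ : Fin (a.len + 1) => f) j =
      c.left ≫ pullback.fst ((N f).left.obj (op b)).hom η ≫ WidePullback.π (fun _ : Fin (b.len + 1) => f) (k.toOrderHom j) :=
  (Category.assoc _ _ _).trans (congrArg (c.left ≫ ·) ((Category.assoc _ _ _).symm.trans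
    ((congrArg (· ≫ _) (pb_map_fst ((N f).left.map k.op))).trans ((Category.assoc _ _ _).trans
      (congrArg (_ ≫ ·) (N_map_π f k j))))))

theorem pb_π {a b : SimplexCategory} (k : a ⟶ b) (j : Fin (a.len + 1)) :
    ((Over.pullback η).map ((N f).left.map k.op)).left ≫ pullback.fst ((N f).left.obj (op a)).hom η ≫
        WidePullback.π (fun _ : Fin (a.len + 1) => f) j =
      pullback.fst ((N f).left.obj (op b)).hom η ≫ WidePullback.π (fun _ : Fin (b.len + 1) => f) (k.toOrderHom j) :=
  (Category.assoc _ _ _).symm.trans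
    ((congrArg (· ≫ _) (pb_map_fst ((N f).left.map k.op))).trans ((Category.assoc _ _ _).trans
      (congrArg (_ ≫ ·) (N_map_π f k j))))

theorem pbS_comp_map_zero (n : ℕ) {a : SimplexCategory} (k : a ⟶ ⦋n⦌) :
    (((Over.pullback η).map ((N f).left.map k.op)).left ≫ pullback.snd ((N f).left.obj (op a)).hom η) ≫ ξ =
      pullback.snd ((N f).left.obj (op ⦋n⦌)).hom η ≫ ξ :=
  congrArg (· ≫ ξ) (Over.w ((Over.pullback η).map ((N f).left.map k.op)))

theorem comm_succ {n m : ℕ} (k : ⦋n⦌ ⟶ ⦋m⦌) (k' : ⦋n + 1⦌ ⟶ ⦋m + 1⦌) (h0 : k'.toOrderHom (0 : Fin (n + 2)) = (0 : Fin (m + 2)))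
    (hs : ∀ j : Fin (n + 1), k'.toOrderHom (Fin.succ j : Fin (n + 2)) = (Fin.succ (k.toOrderHom j : Fin (m + 1)) : Fin (m + 2))) :
    pbS f ξ hξ m ≫ (Over.pullback η).map ((N f).left.map k'.op) =
      (Over.pullback η).map ((N f).left.map k.op) ≫ pbS f ξ hξ n := by
  refine ext_π f fun j => ?_
  refine (pb_map_π f k' (pbS f ξ hξ m) j).trans (Eq.trans ?_ (Category.assoc _ _ _).symm)
  cases j using Fin.cases with
  | zero =>
    refine Eq.trans ?_ ((congrArg (_ ≫ ·) (pbS_π_zero f ξ hξ n)).trans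
      ((Category.assoc _ _ _).symm.trans (pbS_comp_map_zero f ξ m k))).symm
    exact (congrArg (fun z : Fin (m + 2) => (pbS f ξ hξ m).left ≫ pullback.fst _ η ≫
      WidePullback.π (fun _ : Fin (m + 2) => f) z) h0).trans (pbS_π_zero f ξ hξ m)
  | succ j =>
    refine Eq.trans ?_ ((congrArg (_ ≫ ·) (pbS_π_succ f ξ hξ n j)).trans (pb_π f k j)).symm
    exact (congrArg (fun z : Fin (m + 2) => (pbS f ξ hξ m).left ≫ pullback.fst _ η ≫
      WidePullback.π (fun _ : Fin (m + 2) => f) z) (hs j)).trans (pbS_π_succ f ξ hξ m _)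

/-- The extra degeneracy after base change to a point with a lift. -/
noncomputable def pbDeg :
    (((SimplicialObject.Augmented.whiskering _ _).obj (Over.pullback η)).obj (N f)).ExtraDegeneracy where
  s' := pbS' f ξ hξ
  s := pbS f ξ hξ
  s'_comp_ε := by
    refine Over.OverMorphism.ext (pullback.hom_ext ?_ ?_)
    · refine (Category.assoc _ _ _).trans ((congrArg (_ ≫ ·) (pb_map_fst ((N f).hom.app (op ⦋0⦌)))).trans ?_)
      refine (Category.assoc _ _ _).symm.trans ((congrArg (· ≫ _) (pbS'_fst f ξ hξ)).trans ?_)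
      refine (Category.assoc _ _ _).trans ((congrArg (_ ≫ ·) (WidePullback.lift_base _ _ _ _)).trans ?_)
      exact (pullback.condition (f := (N f).right.hom) (g := η)).symm.trans
        ((Category.comp_id _).trans (Category.id_comp _).symm)
    · exact ((Over.w _).trans (Category.id_comp _).symm)
  s₀_comp_δ₁ := by
    refine ext_π f fun j => ?_
    refine (pb_map_π f (SimplexCategory.δ 1) (pbS f ξ hξ 0) j).trans ?_
    obtain rfl : j = 0 := Subsingleton.elim (α := Fin 1) _ _
    refine (pbS_π_zero f ξ hξ 0).trans (Eq.symm ?_)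
    refine (Category.assoc _ _ _).trans ((congrArg (_ ≫ ·) ((Category.assoc _ _ _).symm.trans
      ((congrArg (· ≫ _) (pbS'_fst f ξ hξ)).trans ((Category.assoc _ _ _).trans
        (congrArg (_ ≫ ·) (WidePullback.lift_π _ _ _ _ (0 : Fin 1))))))).trans ?_)
    exact (Category.assoc _ _ _).symm.trans (congrArg (· ≫ ξ) (Over.w _))
  s_comp_δ₀ n := by
    refine ext_π f fun j => ?_
    refine (pb_map_π f (SimplexCategory.δ 0) (pbS f ξ hξ n) j).trans ?_
    exact (pbS_π_succ f ξ hξ n j).trans (Category.id_comp _).symm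
  s_comp_δ n i := comm_succ f ξ hξ (SimplexCategory.δ i) (SimplexCategory.δ i.succ)
    (Fin.succAbove_ne_zero_zero (Fin.succ_ne_zero i)) fun j => Fin.succ_succAbove_succ i j
  s_comp_σ n i := comm_succ f ξ hξ (SimplexCategory.σ i) (SimplexCategory.σ i.succ)
    (Fin.predAbove_of_le_castSucc i.succ (0 : Fin (n + 3)) (Fin.zero_le _)) fun j => Fin.succ_predAbove_succ i j

end Point

theorem exists_lift [IsIntegralHom f] [Surjective f] {Ω : Type u} [Field Ω] [IsAlgClosed Ω]
    (η : Spec (CommRingCat.of Ω) ⟶ Y) : ∃ ξ : Spec (CommRingCat.of Ω) ⟶ X, ξ ≫ f = η := by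
  let P := pullback f η
  haveI : IsIntegralHom (pullback.snd f η) := MorphismProperty.of_isPullback (IsPullback.of_hasPullback f η) ‹_›
  haveI : IsAffine P := isAffine_of_isAffineHom (pullback.snd f η)
  let φ := Spec.preimage (P.isoSpec.inv ≫ pullback.snd f η)
  have hφ : Spec.map φ = P.isoSpec.inv ≫ pullback.snd f η := Spec.map_preimage _
  have hint : φ.hom.IsIntegral := (IsIntegralHom.SpecMap_iff (φ := φ)).1 (hφ ▸ inferInstance)
  obtain ⟨x, -⟩ := (pullback.snd f η).surjective (default : Spec (CommRingCat.of Ω))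
  haveI : Nontrivial Γ(P, ⊤) := by
    by_contra hc
    rw [not_nontrivial_iff_subsingleton] at hc
    exact IsEmpty.false (α := PrimeSpectrum Γ(P, ⊤)) (P.isoSpec.hom x)
  obtain ⟨m, hm⟩ := Ideal.exists_maximal Γ(P, ⊤)
  letI : Algebra Ω (Γ(P, ⊤) ⧸ m) := ((Ideal.Quotient.mk m).comp φ.hom).toAlgebra
  haveI : Algebra.IsIntegral Ω (Γ(P, ⊤) ⧸ m) := ⟨fun z => by
    obtain ⟨z, rfl⟩ := Ideal.Quotient.mk_surjective z
    obtain ⟨p, hp, hz⟩ := hint z
    exact ⟨p, hp, (Polynomial.hom_eval₂ _ _ _ _).symm.trans ((congrArg (Ideal.Quotient.mk m) hz).trans (map_zero _))⟩⟩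
  let e := (RingEquiv.ofBijective (algebraMap Ω (Γ(P, ⊤) ⧸ m)) IsAlgClosed.algebraMap_bijective_of_isIntegral).symm
  let ψ : Γ(P, ⊤) ⟶ CommRingCat.of Ω := CommRingCat.ofHom (e.toRingHom.comp (Ideal.Quotient.mk m))
  have hψ : φ ≫ ψ = 𝟙 _ := CommRingCat.hom_ext (RingHom.ext fun a => e.apply_symm_apply a)
  refine ⟨Spec.map ψ ≫ P.isoSpec.inv ≫ pullback.fst f η, ?_⟩
  rw [Category.assoc, Category.assoc, pullback.condition, ← Category.assoc P.isoSpec.inv, ← hφ,
    ← Category.assoc, ← Spec.map_comp, hψ, Spec.map_id, Category.id_comp]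

section Main

variable [IsIntegralHom f]

theorem isIntegralHom_N (n : SimplexCategoryᵒᵖ) : IsIntegralHom ((N f).left.obj n).hom := by
  induction n using Opposite.rec with
  | op n => exact isIntegralHom_base f n.len

theorem isIntegralHom_N_right : IsIntegralHom (N f).right.hom := inferInstanceAs (IsIntegralHom (𝟙 Y))

variable (η : Y' ⟶ Y)

/-- The base change comparison on a level. -/
noncomputable def φIso (T : Over Y) [IsIntegralHom T.hom] :
    (EtCoh.pull η).op.obj ((PP.Q F (𝟙 Y)).obj T) ≅ (PP.Q F (η ≫ 𝟙 Y)).obj ((Over.pullback η).obj T) :=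
  haveI := PP.isIso_φ η F (𝟙 Y) T
  (asIso (PP.φ η F (𝟙 Y) T)).op.symm

theorem w₀_aux {S T : Over Y} (k : S ⟶ T) :
    (pullback.fst S.hom η ≫ k.left) ≫ T.hom ≫ 𝟙 Y = pullback.snd S.hom η ≫ η ≫ 𝟙 Y := by
  rw [Category.assoc, PP.w_assoc (𝟙 Y) k, pullback.condition_assoc]

theorem φIso_natural {S T : Over Y} [IsIntegralHom S.hom] [IsIntegralHom T.hom] (k : S ⟶ T) :
    (EtCoh.pull η).op.map ((PP.Q F (𝟙 Y)).map k) ≫ (φIso F η T).hom =
      (φIso F η S).hom ≫ (PP.Q F (η ≫ 𝟙 Y)).map ((Over.pullback η).map k) := by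
  haveI := PP.isIso_φ η F (𝟙 Y) T
  haveI := PP.isIso_φ η F (𝟙 Y) S
  have h := PP.φ_natural η F (𝟙 Y) k ((Over.pullback η).map k).left (pullback.lift_fst _ _ _)
    (Over.w ((Over.pullback η).map k)) (PP.w_assoc (η ≫ 𝟙 Y) ((Over.pullback η).map k)) (w₀_aux η k)
  refine Quiver.Hom.unop_inj ?_
  exact (IsIso.inv_comp_eq (PP.φ η F (𝟙 Y) T)).2 (((Category.assoc _ _ _).symm.trans
    ((IsIso.comp_inv_eq (PP.φ η F (𝟙 Y) S)).2 (Eq.trans h.symm rfl))).symm)

/-- The base change of the augmented cosimplicial sheaf. -/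
noncomputable def pullMIso :
    ((SimplicialObject.Augmented.whiskering _ _).obj (EtCoh.pull η).op).obj (M f F) ≅
      ((SimplicialObject.Augmented.whiskering _ _).obj (PP.Q F (η ≫ 𝟙 Y))).obj
        (((SimplicialObject.Augmented.whiskering _ _).obj (Over.pullback η)).obj (N f)) :=
  Comma.isoMk
    (NatIso.ofComponents (fun n => haveI := isIntegralHom_N f n; φIso F η ((N f).left.obj n))
      fun {a b} k => haveI := isIntegralHom_N f a; haveI := isIntegralHom_N f b; φIso_natural F η ((N f).left.map k))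
    (haveI := isIntegralHom_N_right f; φIso F η (N f).right)
    (by
      refine NatTrans.ext (funext fun n => ?_)
      haveI := isIntegralHom_N f n
      haveI := isIntegralHom_N_right f
      haveI : IsIntegralHom (((𝟭 (SimplicialObject (Over Y))).obj (N f).left).obj n).hom := ‹IsIntegralHom ((N f).left.obj n).hom›
      have hM : (M f F).hom.app n = (PP.Q F (𝟙 Y)).map ((N f).hom.app n) := by
        simp [M, SimplicialObject.Augmented.whiskering, SimplicialObject.Augmented.whiskeringObj]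
      simp [SimplicialObject.Augmented.whiskering, SimplicialObject.Augmented.whiskeringObj]
      erw [Category.id_comp, hM]
      exact (φIso_natural F η (S := (N f).left.obj n) (T := (N f).right) ((N f).hom.app n)).symm)

variable [Surjective f]

theorem exact_M :
    Mono (aug (M f F)) ∧ (ShortComplex.mk (aug (M f F)) (dd (M f F) 0) (aug_dd _)).Exact ∧
      ∀ p, (ShortComplex.mk (dd (M f F) p) (dd (M f F) (p + 1)) (dd_dd _ p)).Exact := by
  have key : ∀ (Ω : Type u) [Field Ω] [IsAlgClosed Ω] (η : Spec (CommRingCat.of Ω) ⟶ Y),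
      ∃ ξ : Spec (CommRingCat.of Ω) ⟶ X, ξ ≫ f = η := fun Ω _ _ η => exists_lift f η
  have h := fun (Ω : Type u) [Field Ω] [IsAlgClosed Ω] (η : Spec (CommRingCat.of Ω) ⟶ Y) =>
    contract (EtCoh.pull η) (M f F) (SimplicialObject.Augmented.ExtraDegeneracy.ofIso (pullMIso f F η).symm
      ((pbDeg f (key Ω η).choose (key Ω η).choose_spec).map (PP.Q F (η ≫ 𝟙 Y))))
  exact ⟨mono_of_pull _ fun Ω _ _ η => (h Ω η).1, exact_of_pull _ fun Ω _ _ η => (h Ω η).2.1,
    fun p => exact_of_pull _ fun Ω _ _ η => (h Ω η).2.2 p⟩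

end Main

/-- The resolution of `F`. -/
noncomputable abbrev C : CochainComplex (EtCoh.Ab Y) ℕ := cx (M f F)

/-- The augmentation of the resolution. -/
noncomputable def ιC : (CochainComplex.single₀ _).obj (M f F).right.unop ⟶ C f F := cxι (M f F)

theorem quasiIso_ιC [IsIntegralHom f] [Surjective f] : QuasiIso (ιC f F) := by
  obtain ⟨hm, h0, hs⟩ := exact_M f F
  exact quasiIso_cxι (M f F) hm h0 hs

/-- The value at the base is the sheaf. -/
theorem nonempty_right_iso : Nonempty ((M f F).right.unop ≅ F) := by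
  let α : EtCoh.pull (𝟙 Y ≫ 𝟙 Y) ≅ 𝟭 (EtCoh.Ab Y) := EtCore.pullCongr (Category.id_comp (𝟙 Y)) ≪≫ HFun.pullId Y
  let β : EtCoh.push (𝟙 Y) ≅ 𝟭 (EtCoh.Ab Y) :=
    Functor.sheafPushforwardContinuousId' (HFun.bcId Y) AddCommGrpCat.{u + 1} Y.smallEtaleTopology
  exact ⟨(EtCoh.push (𝟙 Y)).mapIso (α.app F) ≪≫ β.app F⟩

/-- Cohomology of a direct image along an integral morphism. -/
theorem nonempty_ext_push {T : Scheme.{u}} (a : T ⟶ Y) [IsIntegralHom a] (G : EtCoh.Ab T) (q : ℕ) :
    Nonempty (Ext (EtCoh.const Y ℤ) ((EtCoh.push a).obj G) q ≃+ EtCoh.H T G q) := by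
  haveI : PreservesFiniteColimits (EtCoh.push a) := EtFound.push_preservesFiniteColimits a
  haveI : PreservesFiniteLimits (EtCoh.pull a) := HFun.pullPFL a
  haveI : (EtCoh.push a).Additive := (EtCoh.pullPushAdj a).right_adjoint_additive
  obtain ⟨e⟩ := SiteBase.nonempty_ext_addEquiv_of_adjunction (EtCoh.pullPushAdj a)
    (PA := EtCoh.const T ℤ) (PB := EtCoh.const Y ℤ) (EtCore.pullConst a ℤ) q G
  exact ⟨e.symm⟩

theorem nonempty_E₁ [IsIntegralHom f] (p q : ℕ) :
    Nonempty (Ext (EtCoh.const Y ℤ) ((C f F).X p) q ≃+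
      EtCoh.H (widePullback Y (fun _ : Fin (p + 1) => X) (fun _ => f))
        ((EtCoh.pull (WidePullback.base (fun _ : Fin (p + 1) => f))).obj F) q) := by
  haveI := isIntegralHom_base f p
  obtain ⟨e⟩ := nonempty_ext_push (WidePullback.base (fun _ : Fin (p + 1) => f))
    ((EtCoh.pull (WidePullback.base (fun _ : Fin (p + 1) => f) ≫ 𝟙 Y)).obj F) q
  exact ⟨e.trans ((EtCoh.HF _ q).mapIso ((EtCore.pullCongr
    (Category.comp_id (WidePullback.base (fun _ : Fin (p + 1) => f)))).app F)).addCommGroupIsoToAddEquiv⟩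

/-- The descent spectral sequence of an integral surjective morphism. -/
theorem exists_ss [IsIntegralHom f] [Surjective f] :
    ∃ (E : CohomologicalSpectralSequence AddCommGrpCat.{u + 1} 1)
      (a : SpSeq.Abutment E (fun n : ℤ =>
        if 0 ≤ n then AddCommGrpCat.of (EtCoh.H Y F n.toNat) else AddCommGrpCat.of PUnit.{u + 2})),
      (∀ n, a.IsFinite n) ∧ SpSeq.IsBounded E ∧
      ∀ p q : ℤ, Nonempty ((E.page 1 le_rfl).X (p, q) ≅
        (if 0 ≤ p ∧ 0 ≤ q then
          AddCommGrpCat.of (EtCoh.H (widePullback Y (fun _ : Fin (p.toNat + 1) => X) (fun _ => f))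
            ((EtCoh.pull (WidePullback.base (fun _ : Fin (p.toNat + 1) => f) :
              widePullback Y (fun _ : Fin (p.toNat + 1) => X) (fun _ => f) ⟶ Y)).obj F) q.toNat)
         else AddCommGrpCat.of PUnit.{u + 2})) := by
  obtain ⟨Einj, hi, hE⟩ := InjFun.exists_injective_coseparator (A := EtCoh.Ab Y)
  haveI := quasiIso_ιC f F
  obtain ⟨i⟩ := nonempty_right_iso f F
  refine ResSS.exists_spectralSequence Einj hE (EtCoh.const Y ℤ) F (C f F)
    ((CochainComplex.single₀ _).map i.inv ≫ ιC f F) _ (fun p q => ?_) (fun p q h => ?_) _ (fun n => ?_) fun n hn => ?_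
  · obtain ⟨e⟩ := nonempty_E₁ f F p q
    refine ⟨(AddEquiv.toAddCommGrpIso (X := AddCommGrpCat.of (Ext (EtCoh.const Y ℤ) ((C f F).X p) q))
      (Y := AddCommGrpCat.of (EtCoh.H (widePullback Y (fun _ : Fin (p + 1) => X) (fun _ => f))
        ((EtCoh.pull (WidePullback.base (fun _ : Fin (p + 1) => f))).obj F) q)) e) ≪≫ eqToIso ?_⟩
    rw [if_pos ⟨Int.natCast_nonneg p, Int.natCast_nonneg q⟩]
    rfl
  · rw [if_neg (by omega)]
    exact AddCommGrpCat.isZero_of_subsingleton _
  · exact ⟨eqToIso (by simp)⟩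
  · rw [if_neg (not_le.2 hn)]
    exact AddCommGrpCat.isZero_of_subsingleton _

end Groth.Agent.EtEff48.IntDesc
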