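import Groth.Agent.EtEff48.HFunctor
import Groth.Agent.EtFound.FiniteBaseChange
import Groth.Agent.EtFound.IntegralBaseChange

/-!
# `T ↦ a_* a^* F` as a functor of the scheme `a : T ⟶ Y` over the base, and its base change
-/

set_option autoImplicit false
set_option backward.isDefEq.respectTransparency false
set_option backward.isDefEq.respectTransparency.types false

universe u

open CategoryTheory CategoryTheory.Limits AlgebraicGeometry Opposite

namespace Groth.Agent.EtEff48.PP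

open HFun

variable {X Y Z : Scheme.{u}}

/-- composite base change is iterated base change -/
noncomputable def cinv (k : X ⟶ Y) (t : Y ⟶ Z) (c : X ⟶ Z) (w : k ≫ t = c) (V : Z.Etale) :
    (EtCoh.bc c).obj V ⟶ (EtCoh.bc k).obj ((EtCoh.bc t).obj V) :=
  MorphismProperty.Over.homMk
    (pullback.lift (pullback.lift (pullback.fst V.hom c) (pullback.snd V.hom c ≫ k)
        (pullback.condition.trans ((congrArg (_ ≫ ·) w.symm).trans (Category.assoc _ _ _).symm)))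
      (pullback.snd V.hom c) (pullback.lift_snd _ _ _))
    (pullback.lift_snd _ _ _) trivial

theorem cinv_fst_fst (k : X ⟶ Y) (t : Y ⟶ Z) (c : X ⟶ Z) (w : k ≫ t = c) (V : Z.Etale) :
    (cinv k t c w V).left ≫ pullback.fst ((EtCoh.bc t).obj V).hom k ≫ pullback.fst V.hom t =
      pullback.fst V.hom c :=
  ((Category.assoc _ _ _).symm.trans (congrArg (· ≫ _) (pullback.lift_fst _ _ _))).trans (pullback.lift_fst _ _ _)

theorem cinv_snd (k : X ⟶ Y) (t : Y ⟶ Z) (c : X ⟶ Z) (w : k ≫ t = c) (V : Z.Etale) :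
    (cinv k t c w V).left ≫ pullback.snd ((EtCoh.bc t).obj V).hom k = pullback.snd V.hom c :=
  pullback.lift_snd _ _ _

/-- Morphisms into a base change are determined by their two projections. -/
theorem hom_ext_bc {f : X ⟶ Y} {V : Y.Etale} {W : X.Etale} {a b : W ⟶ (EtCoh.bc f).obj V}
    (h : a.left ≫ pullback.fst V.hom f = b.left ≫ pullback.fst V.hom f) : a = b :=
  MorphismProperty.Over.Hom.ext (pullback.hom_ext h
    ((MorphismProperty.Over.w a).trans (MorphismProperty.Over.w b).symm))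

theorem cmp_cinv (k : X ⟶ Y) (t : Y ⟶ Z) (c : X ⟶ Z) (w : k ≫ t = c) (V : Z.Etale) :
    cinv k t c w V ≫ cmp k t c w V = 𝟙 _ :=
  hom_ext_bc (((Category.assoc _ _ _).trans ((congrArg (_ ≫ ·) (cmp_fst k t c w V)).trans
    (cinv_fst_fst k t c w V))).trans (Category.id_comp _).symm)

variable {T' T T'' : Scheme.{u}} {F : EtCoh.Ab Z}

/-- A morphism into a direct image followed by the image of a morphism, on sections. -/
theorem comp_push_apply {X Y : Scheme.{u}} (k : X ⟶ Y) {A : EtCoh.Ab Y} {B C : EtCoh.Ab X}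
    (η : A ⟶ (EtCoh.push k).obj B) (φ : B ⟶ C) (W : Y.Etale) (x : A.obj.obj (op W)) :
    (η ≫ (EtCoh.push k).map φ).hom.app (op W) x =
      φ.hom.app (op ((EtCoh.bc k).obj W)) (η.hom.app (op W) x) := rfl

/-- The adjunct of a morphism, on sections. -/
theorem unit_push_apply {X Y : Scheme.{u}} (k : X ⟶ Y) (L : EtCoh.Ab Y ⥤ EtCoh.Ab X)
    (η : 𝟭 (EtCoh.Ab Y) ⟶ L ⋙ EtCoh.push k) (A : EtCoh.Ab Y) {C : EtCoh.Ab X} (φ : L.obj A ⟶ C)
    (W : Y.Etale) (x : A.obj.obj (op W)) :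
    (η.app A ≫ (EtCoh.push k).map φ).hom.app (op W) x =
      φ.hom.app (op ((EtCoh.bc k).obj W)) ((η.app A).hom.app (op W) x) := rfl

/-- The adjunct of a morphism out of an inverse image. -/
noncomputable def adj {X Y : Scheme.{u}} (k : X ⟶ Y) {A : EtCoh.Ab Y} {C : EtCoh.Ab X} (φ : (EtCoh.pull k).obj A ⟶ C) :
    A ⟶ (EtCoh.push k).obj C :=
  (EtCoh.pullPushAdj k).unit.app A ≫ (EtCoh.push k).map φ

theorem adj_apply {X Y : Scheme.{u}} (k : X ⟶ Y) {A : EtCoh.Ab Y} {C : EtCoh.Ab X} (φ : (EtCoh.pull k).obj A ⟶ C)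
    (W : Y.Etale) (x : A.obj.obj (op W)) :
    (adj k φ).hom.app (op W) x = φ.hom.app (op ((EtCoh.bc k).obj W)) (up k A W x) :=
  unit_push_apply k (EtCoh.pull k) (EtCoh.pullPushAdj k).unit A φ W x

/-- Iterated and composite inverse image, at a sheaf. -/
noncomputable def ζ (k : T' ⟶ T) (c : T ⟶ Z) (c' : T' ⟶ Z) (w : k ≫ c = c') (F : EtCoh.Ab Z) :
    (EtCoh.pull k).obj ((EtCoh.pull c).obj F) ⟶ (EtCoh.pull c').obj F :=
  (θ k c c' w).hom.app F

instance isIso_ζ (k : T' ⟶ T) (c : T ⟶ Z) (c' : T' ⟶ Z) (w : k ≫ c = c') (F : EtCoh.Ab Z) : IsIso (ζ k c c' w F) :=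
  inferInstanceAs (IsIso ((θ k c c' w).hom.app F))

/-- The transition map between inverse images. -/
noncomputable def tw (k : T' ⟶ T) (c : T ⟶ Z) (c' : T' ⟶ Z) (w : k ≫ c = c') (F : EtCoh.Ab Z) :
    (EtCoh.pull c).obj F ⟶ (EtCoh.push k).obj ((EtCoh.pull c').obj F) :=
  adj k (ζ k c c' w F)

theorem tw_apply (k : T' ⟶ T) (c : T ⟶ Z) (c' : T' ⟶ Z) (w : k ≫ c = c') (F : EtCoh.Ab Z) (W : T.Etale)
    (x : ((EtCoh.pull c).obj F).obj.obj (op W)) :
    (tw k c c' w F).hom.app (op W) x =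
      ((θ k c c' w).hom.app F).hom.app (op ((EtCoh.bc k).obj W)) (up k ((EtCoh.pull c).obj F) W x) :=
  adj_apply k (ζ k c c' w F) W x

/-- The transition map on sections from the base. -/
theorem tw_up (k : T' ⟶ T) (c : T ⟶ Z) (c' : T' ⟶ Z) (w : k ≫ c = c') (F : EtCoh.Ab Z) (V : Z.Etale)
    (x : F.obj.obj (op V)) :
    (tw k c c' w F).hom.app (op ((EtCoh.bc c).obj V)) (up c F V x) =
      ((EtCoh.pull c').obj F).obj.map (cmp k c c' w V).op (up c' F V x) :=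
  (tw_apply k c c' w F _ _).trans (θ_up k c c' w F V x)

theorem map_map {T : Scheme.{u}} (G : EtCoh.Ab T) {A B C : T.Etale} (a : A ⟶ B) (b : B ⟶ C)
    (x : G.obj.obj (op C)) : G.obj.map a.op (G.obj.map b.op x) = G.obj.map (a ≫ b).op x := by
  rw [op_comp, Functor.map_comp, ConcreteCategory.comp_apply]

theorem map_id_apply {T : Scheme.{u}} (G : EtCoh.Ab T) {A : T.Etale} {a : A ⟶ A} (h : a = 𝟙 A)
    (x : G.obj.obj (op A)) : G.obj.map a.op x = x := by
  subst h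
  rw [op_id, CategoryTheory.Functor.map_id, ConcreteCategory.id_apply]

/-- `push h ≫ push k` against `push (h ≫ k)`, on sections. -/
noncomputable def pushNat (h : T'' ⟶ T') (k : T' ⟶ T) (hk : T'' ⟶ T) (w : h ≫ k = hk) (G : EtCoh.Ab T'') :
    (EtCoh.push hk).obj G ⟶ (EtCoh.push k).obj ((EtCoh.push h).obj G) :=
  ⟨{ app := fun V => G.obj.map (cmp h k hk w V.unop).op
     naturality := fun V V' m => ConcreteCategory.hom_ext _ _ fun x => by
      change G.obj.map (cmp h k hk w V'.unop).op (G.obj.map ((EtCoh.bc hk).map m.unop).op x) =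
        G.obj.map ((EtCoh.bc h).map ((EtCoh.bc k).map m.unop)).op (G.obj.map (cmp h k hk w V.unop).op x)
      rw [map_map, map_map]
      refine congrArg (fun a => G.obj.map (Quiver.Hom.op a) x) (hom_ext_bc ?_)
      refine ((Category.assoc _ _ _).trans (congrArg (_ ≫ ·) (bc_map_fst hk m.unop))).trans
        (Eq.trans ?_ ((Category.assoc _ _ _).trans (congrArg (_ ≫ ·) (cmp_fst h k hk w V.unop))).symm)
      refine ((Category.assoc _ _ _).symm.trans ((congrArg (· ≫ _) (cmp_fst h k hk w V'.unop)).trans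
        (Category.assoc _ _ _))).trans ?_
      refine Eq.trans ?_ ((Category.assoc _ _ _).symm.trans ((congrArg (· ≫ _)
        (bc_map_fst h ((EtCoh.bc k).map m.unop))).trans (Category.assoc _ _ _))).symm
      exact congrArg (_ ≫ ·) (bc_map_fst k m.unop).symm }⟩

theorem pushNat_apply (h : T'' ⟶ T') (k : T' ⟶ T) (hk : T'' ⟶ T) (w : h ≫ k = hk) {A : EtCoh.Ab T} {G : EtCoh.Ab T''}
    (η : A ⟶ (EtCoh.push hk).obj G) (W : T.Etale) (x : A.obj.obj (op W)) :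
    (η ≫ pushNat h k hk w G).hom.app (op W) x = G.obj.map (cmp h k hk w W).op (η.hom.app (op W) x) := rfl

theorem push_map_apply {X Y : Scheme.{u}} (k : X ⟶ Y) {B : EtCoh.Ab Y} {C : EtCoh.Ab X} (φ : B ⟶ (EtCoh.push k).obj C)
    {V V' : Y.Etale} (m : V' ⟶ V) (x : B.obj.obj (op V)) :
    φ.hom.app (op V') (B.obj.map m.op x) = C.obj.map ((EtCoh.bc k).map m).op (φ.hom.app (op V) x) :=
  NatTrans.naturality_apply φ.hom m.op x

theorem comp_gen (h : T'' ⟶ T') (k : T' ⟶ T) (hk : T'' ⟶ T) (whk : h ≫ k = hk) (c : T ⟶ Z) (c' : T' ⟶ Z)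
    (c'' : T'' ⟶ Z) (w : k ≫ c = c') (w' : h ≫ c' = c'') (w'' : hk ≫ c = c'')
    {F₁ : EtCoh.Ab Z} {G₂ : EtCoh.Ab T''} {G₁ : EtCoh.Ab T'}
    (a : (EtCoh.pull c).obj F₁ ⟶ (EtCoh.push k).obj G₁) (b : G₁ ⟶ (EtCoh.push h).obj G₂)
    (d : (EtCoh.pull c).obj F₁ ⟶ (EtCoh.push hk).obj G₂)
    (u₁ : ∀ V, F₁.obj.obj (op V) → G₁.obj.obj (op ((EtCoh.bc c').obj V)))
    (u₂ : ∀ V, F₁.obj.obj (op V) → G₂.obj.obj (op ((EtCoh.bc c'').obj V)))
    (ha : ∀ V y, a.hom.app (op ((EtCoh.bc c).obj V)) (up c F₁ V y) = G₁.obj.map (cmp k c c' w V).op (u₁ V y))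
    (hb : ∀ V y, b.hom.app (op ((EtCoh.bc c').obj V)) (u₁ V y) = G₂.obj.map (cmp h c' c'' w' V).op (u₂ V y))
    (hd : ∀ V y, d.hom.app (op ((EtCoh.bc c).obj V)) (up c F₁ V y) = G₂.obj.map (cmp hk c c'' w'' V).op (u₂ V y)) :
    d ≫ pushNat h k hk whk G₂ = a ≫ (EtCoh.push k).map b := by
  refine hom_ext c fun V y => ?_
  refine (pushNat_apply h k hk whk d _ _).trans (Eq.trans ?_ (comp_push_apply k a b _ _).symm)
  refine Eq.trans ?_ ((congrArg _ (ha V y)).trans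
    ((push_map_apply h b (cmp k c c' w V) (u₁ V y)).trans (congrArg _ (hb V y)))).symm
  refine (congrArg _ (hd V y)).trans ?_
  rw [map_map, map_map]
  refine congrArg (fun a => G₂.obj.map (Quiver.Hom.op a) (u₂ V y)) (hom_ext_bc ?_)
  refine ((Category.assoc _ _ _).trans (congrArg (_ ≫ ·) (cmp_fst hk c c'' w'' V))).trans
    (Eq.trans ?_ ((Category.assoc _ _ _).trans (congrArg (_ ≫ ·) (cmp_fst h c' c'' w' V))).symm)
  refine ((Category.assoc _ _ _).symm.trans ((congrArg (· ≫ _) (cmp_fst h k hk whk _)).trans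
    (Category.assoc _ _ _))).trans ?_
  refine Eq.trans ?_ ((Category.assoc _ _ _).symm.trans ((congrArg (· ≫ _)
    (bc_map_fst h (cmp k c c' w V))).trans (Category.assoc _ _ _))).symm
  exact congrArg (_ ≫ ·) (cmp_fst k c c' w V).symm

theorem apply_gen (h : T'' ⟶ T') (k : T' ⟶ T) (hk : T'' ⟶ T) (whk : h ≫ k = hk)
    {A : EtCoh.Ab T} {G₁ : EtCoh.Ab T'} {G₂ : EtCoh.Ab T''}
    (a : A ⟶ (EtCoh.push k).obj G₁) (b : G₁ ⟶ (EtCoh.push h).obj G₂) (d : A ⟶ (EtCoh.push hk).obj G₂)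
    (H : d ≫ pushNat h k hk whk G₂ = a ≫ (EtCoh.push k).map b) (W : T.Etale) (x : A.obj.obj (op W)) :
    G₂.obj.map (cmp h k hk whk W).op (d.hom.app (op W) x) =
      b.hom.app (op ((EtCoh.bc k).obj W)) (a.hom.app (op W) x) :=
  ((pushNat_apply h k hk whk d W x).symm.trans (congrArg (fun α : A ⟶
      (EtCoh.push k).obj ((EtCoh.push h).obj G₂) => α.hom.app (op W) x) H)).trans
        (comp_push_apply k a b W x)

/-- Transition maps compose. -/
theorem tw_comp (h : T'' ⟶ T') (k : T' ⟶ T) (hk : T'' ⟶ T) (whk : h ≫ k = hk) (c : T ⟶ Z) (c' : T' ⟶ Z)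
    (c'' : T'' ⟶ Z) (w : k ≫ c = c') (w' : h ≫ c' = c'') (w'' : hk ≫ c = c'') (F : EtCoh.Ab Z)
    (W : T.Etale) (x : ((EtCoh.pull c).obj F).obj.obj (op W)) :
    ((EtCoh.pull c'').obj F).obj.map (cmp h k hk whk W).op ((tw hk c c'' w'' F).hom.app (op W) x) =
      (tw h c' c'' w' F).hom.app (op ((EtCoh.bc k).obj W)) ((tw k c c' w F).hom.app (op W) x) :=
  apply_gen h k hk whk _ _ _
    (comp_gen h k hk whk c c' c'' w w' w'' (tw k c c' w F) (tw h c' c'' w' F) (tw hk c c'' w'' F)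
      (up c' F) (up c'' F) (tw_up k c c' w F) (tw_up h c' c'' w' F) (tw_up hk c c'' w'' F)) W x

/-- The transition map along an identity. -/
theorem tw_id (k : T ⟶ T) (hk : k = 𝟙 T) (c : T ⟶ Z) (w : k ≫ c = c) (F : EtCoh.Ab Z) (W : T.Etale)
    (i : W ⟶ (EtCoh.bc k).obj W) (hi : i.left ≫ pullback.fst W.hom k = 𝟙 _)
    (x : ((EtCoh.pull c).obj F).obj.obj (op W)) :
    ((EtCoh.pull c).obj F).obj.map i.op ((tw k c c w F).hom.app (op W) x) = x := by
  subst hk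
  let e : ∀ A : T.Etale, A ⟶ (EtCoh.bc (𝟙 T)).obj A := fun A => (bcId T).inv.app A
  have he : ∀ A, (e A).left ≫ pullback.fst A.hom (𝟙 T) = 𝟙 _ := fun A => by
    exact congrArg (fun a : A ⟶ A => a.left) ((bcId T).inv_hom_id_app A)
  obtain rfl : i = e W := hom_ext_bc (hi.trans (he W).symm)
  let α : (EtCoh.pull c).obj F ⟶ (EtCoh.pull c).obj F :=
    ⟨{ app := fun A => (tw (𝟙 T) c c w F).hom.app A ≫ ((EtCoh.pull c).obj F).obj.map (e A.unop).op
       naturality := fun A A' m => by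
        rw [← Category.assoc, (tw (𝟙 T) c c w F).hom.naturality, Category.assoc, Category.assoc]
        refine congrArg (_ ≫ ·) ?_
        refine ((((EtCoh.pull c).obj F).obj.map_comp _ _).symm.trans (congrArg _ ?_)).trans
          (((EtCoh.pull c).obj F).obj.map_comp _ _)
        exact congrArg Quiver.Hom.op ((bcId T).inv.naturality m.unop).symm }⟩
  suffices α = 𝟙 _ from ConcreteCategory.congr_hom (congrArg (fun β : (EtCoh.pull c).obj F ⟶
      (EtCoh.pull c).obj F => β.hom.app (op W)) this) x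
  refine hom_ext c fun V y => ?_
  change ((EtCoh.pull c).obj F).obj.map (e _).op ((tw (𝟙 T) c c w F).hom.app _ (up c F V y)) = up c F V y
  rw [tw_up, map_map]
  refine map_id_apply _ (hom_ext_bc ?_) _
  refine ((Category.assoc _ _ _).trans ((congrArg (_ ≫ ·) (cmp_fst (𝟙 T) c c w V)).trans
    ((Category.assoc _ _ _).symm.trans (congrArg (· ≫ _) (he _))))).trans rfl

theorem cinv_cmp (k : X ⟶ Y) (t : Y ⟶ Z) (c : X ⟶ Z) (w : k ≫ t = c) (V : Z.Etale) :
    cmp k t c w V ≫ cinv k t c w V = 𝟙 _ := by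
  have hs : (cmp k t c w V ≫ cinv k t c w V).left ≫ pullback.snd ((EtCoh.bc t).obj V).hom k =
      (𝟙 ((EtCoh.bc k).obj ((EtCoh.bc t).obj V)) : _ ⟶ (EtCoh.bc k).obj ((EtCoh.bc t).obj V)).left ≫
        pullback.snd ((EtCoh.bc t).obj V).hom k :=
    ((Category.assoc _ _ _).trans ((congrArg (_ ≫ ·) (cinv_snd k t c w V)).trans (cmp_snd k t c w V))).trans
      (Category.id_comp _).symm
  refine MorphismProperty.Over.Hom.ext (pullback.hom_ext (pullback.hom_ext ?_ ?_) hs)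
  · exact ((Category.assoc _ _ _).trans ((Category.assoc _ _ _).trans ((congrArg (_ ≫ ·) (cinv_fst_fst k t c w V)).trans
      (cmp_fst k t c w V)))).trans (congrArg (· ≫ _) (Category.id_comp _)).symm
  · have h1 : pullback.fst ((EtCoh.bc t).obj V).hom k ≫ pullback.snd V.hom t =
        pullback.snd ((EtCoh.bc t).obj V).hom k ≫ k := pullback.condition
    exact ((Category.assoc _ _ _).trans (congrArg (_ ≫ ·) h1)).trans ((Category.assoc _ _ _).symm.trans
      ((congrArg (· ≫ k) hs).trans ((Category.assoc _ _ _).trans (((Category.assoc _ _ _).trans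
        (congrArg (_ ≫ ·) h1)).symm))))

instance (k : X ⟶ Y) (t : Y ⟶ Z) (c : X ⟶ Z) (w : k ≫ t = c) (V : Z.Etale) : IsIso (cmp k t c w V) :=
  ⟨cinv k t c w V, cinv_cmp k t c w V, cmp_cinv k t c w V⟩

/-- `cinv` is natural. -/
theorem cinv_nat (k : X ⟶ Y) (t : Y ⟶ Z) (c : X ⟶ Z) (w : k ≫ t = c) {V V' : Z.Etale} (m : V' ⟶ V) :
    (EtCoh.bc c).map m ≫ cinv k t c w V = cinv k t c w V' ≫ (EtCoh.bc k).map ((EtCoh.bc t).map m) := by
  rw [← cancel_mono (cmp k t c w V), Category.assoc, Category.assoc, cmp_cinv, Category.comp_id]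
  refine hom_ext_bc ?_
  refine (bc_map_fst c m).trans (Eq.symm ?_)
  refine (Category.assoc _ _ _).trans ((congrArg (_ ≫ ·) ((Category.assoc _ _ _).trans
    ((congrArg (_ ≫ ·) (cmp_fst k t c w V)).trans ((Category.assoc _ _ _).symm.trans
      ((congrArg (· ≫ _) (bc_map_fst k ((EtCoh.bc t).map m))).trans ((Category.assoc _ _ _).trans
        (congrArg (_ ≫ ·) (bc_map_fst t m)))))))).trans ?_)
  exact (congrArg (_ ≫ ·) (Category.assoc _ _ _).symm).trans
    ((Category.assoc _ _ _).symm.trans (congrArg (· ≫ _) (cinv_fst_fst k t c w V')))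

theorem cinv_comp {W₀ W₁ W₂ T : Scheme.{u}} (h : W₀ ⟶ W₁) (k : W₁ ⟶ W₂) (hk : W₀ ⟶ W₂) (whk : h ≫ k = hk)
    (t : W₂ ⟶ T) (t₁ : W₁ ⟶ T) (t₀ : W₀ ⟶ T) (w₁ : k ≫ t = t₁) (w₀ : h ≫ t₁ = t₀) (w : hk ≫ t = t₀) (V : T.Etale) :
    cinv hk t t₀ w V = cinv h t₁ t₀ w₀ V ≫ (EtCoh.bc h).map (cinv k t t₁ w₁ V) ≫ cmp h k hk whk _ := by
  rw [← cancel_mono (cmp hk t t₀ w V), cmp_cinv, Category.assoc, Category.assoc]
  refine hom_ext_bc ?_
  refine (Category.id_comp _).trans (Eq.symm ?_)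
  refine (Category.assoc _ _ _).trans ((congrArg (_ ≫ ·) ((Category.assoc _ _ _).trans ((congrArg (_ ≫ ·)
    ((Category.assoc _ _ _).trans ((congrArg (_ ≫ ·) (cmp_fst hk t t₀ w V)).trans ((Category.assoc _ _ _).symm.trans
      ((congrArg (· ≫ _) (cmp_fst h k hk whk _)).trans (Category.assoc _ _ _)))))).trans
        ((Category.assoc _ _ _).symm.trans ((congrArg (· ≫ _) (bc_map_fst h (cinv k t t₁ w₁ V))).trans
          ((Category.assoc _ _ _).trans (congrArg (_ ≫ ·) (cinv_fst_fst k t t₁ w₁ V)))))))).trans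
            (cinv_fst_fst h t₁ t₀ w₀ V))

theorem mapArrow_apply {X Y : Scheme.{u}} (f : X ⟶ Y) {G G' : EtCoh.Ab X} (a : G ⟶ G') (V : Y.Etale)
    (x : G.obj.obj (op ((EtCoh.bc f).obj V))) :
    ((EtCoh.push f).map a).hom.app (op V) x = a.hom.app (op ((EtCoh.bc f).obj V)) x := rfl

/-- `push t (push k) ≅ push t₁` for `k ≫ t = t₁`, in one direction. -/
noncomputable def cinvNat (k : T' ⟶ T) (t : T ⟶ Y) (t₁ : T' ⟶ Y) (w : k ≫ t = t₁) (G : EtCoh.Ab T') :
    (EtCoh.push t).obj ((EtCoh.push k).obj G) ⟶ (EtCoh.push t₁).obj G :=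
  ⟨{ app := fun V => G.obj.map (cinv k t t₁ w V.unop).op
     naturality := fun V V' m => ConcreteCategory.hom_ext _ _ fun x => by
      change G.obj.map (cinv k t t₁ w V'.unop).op (G.obj.map ((EtCoh.bc k).map ((EtCoh.bc t).map m.unop)).op x) =
        G.obj.map ((EtCoh.bc t₁).map m.unop).op (G.obj.map (cinv k t t₁ w V.unop).op x)
      rw [map_map, map_map]
      exact congrArg (fun a => G.obj.map (Quiver.Hom.op a) x) (cinv_nat k t t₁ w m.unop).symm }⟩

/-- A transition map of direct images. -/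
noncomputable def qg (k : T' ⟶ T) (t : T ⟶ Y) (t₁ : T' ⟶ Y) (w : k ≫ t = t₁) {A : EtCoh.Ab T} {G : EtCoh.Ab T'}
    (a : A ⟶ (EtCoh.push k).obj G) : (EtCoh.push t).obj A ⟶ (EtCoh.push t₁).obj G :=
  (EtCoh.push t).map a ≫ cinvNat k t t₁ w G

theorem qg_apply (k : T' ⟶ T) (t : T ⟶ Y) (t₁ : T' ⟶ Y) (w : k ≫ t = t₁) {A : EtCoh.Ab T} {G : EtCoh.Ab T'}
    (a : A ⟶ (EtCoh.push k).obj G) (V : Y.Etale) (x : A.obj.obj (op ((EtCoh.bc t).obj V))) :
    (qg k t t₁ w a).hom.app (op V) x =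
      G.obj.map (cinv k t t₁ w V).op (a.hom.app (op ((EtCoh.bc t).obj V)) x) := rfl

theorem cinv_id_fst (t : T ⟶ Y) (w : 𝟙 T ≫ t = t) (V : Y.Etale) :
    (cinv (𝟙 T) t t w V).left ≫ pullback.fst ((EtCoh.bc t).obj V).hom (𝟙 T) = 𝟙 _ :=
  pullback.hom_ext ((Category.assoc _ _ _).trans ((cinv_fst_fst _ _ _ _ _).trans (Category.id_comp _).symm))
    ((Category.assoc _ _ _).trans ((congrArg (_ ≫ ·) pullback.condition).trans
      ((Category.assoc _ _ _).symm.trans ((congrArg (· ≫ _) (cinv_snd _ _ _ _ _)).trans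
        ((Category.comp_id _).trans (Category.id_comp _).symm)))))

theorem qg_id (t : T ⟶ Y) (w : 𝟙 T ≫ t = t) {A : EtCoh.Ab T} (a : A ⟶ (EtCoh.push (𝟙 T)).obj A)
    (ha : ∀ (W : T.Etale) (i : W ⟶ (EtCoh.bc (𝟙 T)).obj W), i.left ≫ pullback.fst W.hom (𝟙 T) = 𝟙 _ →
      ∀ x : A.obj.obj (op W), A.obj.map i.op (a.hom.app (op W) x) = x) :
    qg (𝟙 T) t t w a = 𝟙 _ :=
  Sheaf.hom_ext (NatTrans.ext (funext fun V => ConcreteCategory.hom_ext _ _ fun x =>
    (qg_apply (𝟙 T) t t w a V.unop x).trans (ha _ _ (cinv_id_fst t w V.unop) x)))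

theorem qg_comp (h : T'' ⟶ T') (k : T' ⟶ T) (hk : T'' ⟶ T) (whk : h ≫ k = hk) (t : T ⟶ Y) (t₁ : T' ⟶ Y)
    (t₀ : T'' ⟶ Y) (w₁ : k ≫ t = t₁) (w₀ : h ≫ t₁ = t₀) (w : hk ≫ t = t₀)
    {A : EtCoh.Ab T} {G₁ : EtCoh.Ab T'} {G₂ : EtCoh.Ab T''}
    (a : A ⟶ (EtCoh.push k).obj G₁) (b : G₁ ⟶ (EtCoh.push h).obj G₂) (d : A ⟶ (EtCoh.push hk).obj G₂)
    (H : ∀ (W : T.Etale) (x : A.obj.obj (op W)), G₂.obj.map (cmp h k hk whk W).op (d.hom.app (op W) x) =
      b.hom.app (op ((EtCoh.bc k).obj W)) (a.hom.app (op W) x)) :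
    qg hk t t₀ w d = qg k t t₁ w₁ a ≫ qg h t₁ t₀ w₀ b :=
  Sheaf.hom_ext (NatTrans.ext (funext fun V => ConcreteCategory.hom_ext _ _ fun x => by
    refine (qg_apply hk t t₀ w d V.unop x).trans (Eq.trans ?_ ((qg_apply h t₁ t₀ w₀ b V.unop _).trans
      ((congrArg _ ((congrArg _ (qg_apply k t t₁ w₁ a V.unop x)).trans
        (push_map_apply h b (cinv k t t₁ w₁ V.unop) _))).trans
          ((map_map _ _ _ _).trans ((congrArg _ (H _ x).symm).trans (map_map _ _ _ _))))).symm)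
    exact congrArg (fun a => G₂.obj.map (Quiver.Hom.op a) _)
      ((cinv_comp h k hk whk t t₁ t₀ w₁ w₀ w V.unop).trans (Category.assoc _ _ _).symm)))

theorem w_assoc (g : Y ⟶ Z) {S T : Over Y} (k : S ⟶ T) : k.left ≫ T.hom ≫ g = S.hom ≫ g :=
  (Category.assoc _ _ _).symm.trans (congrArg (· ≫ g) (Over.w k))

variable (F) (g : Y ⟶ Z)

/-- The direct image of the inverse image, contravariant in the schemes over `Y`. -/
noncomputable def Q : Over Y ⥤ (EtCoh.Ab Y)ᵒᵖ where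
  obj T := op ((EtCoh.push T.hom).obj ((EtCoh.pull (T.hom ≫ g)).obj F))
  map {S T} k := (qg k.left T.hom S.hom (Over.w k) (tw k.left (T.hom ≫ g) (S.hom ≫ g) (w_assoc g k) F)).op
  map_id T := congrArg Quiver.Hom.op
    (qg_id T.hom (Category.id_comp _) (tw (𝟙 T.left) (T.hom ≫ g) (T.hom ≫ g) (Category.id_comp _) F)
      fun W i hi x => tw_id (𝟙 T.left) rfl (T.hom ≫ g) (Category.id_comp _) F W i hi x)
  map_comp {R S T} h k := congrArg Quiver.Hom.op
    (qg_comp h.left k.left (h.left ≫ k.left) rfl T.hom S.hom R.hom (Over.w k) (Over.w h) (Over.w (h ≫ k))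
      (tw k.left (T.hom ≫ g) (S.hom ≫ g) (w_assoc g k) F) (tw h.left (S.hom ≫ g) (R.hom ≫ g) (w_assoc g h) F)
      (tw (h.left ≫ k.left) (T.hom ≫ g) (R.hom ≫ g) (w_assoc g (h ≫ k)) F)
      (tw_comp h.left k.left (h.left ≫ k.left) rfl (T.hom ≫ g) (S.hom ≫ g) (R.hom ≫ g) (w_assoc g k) (w_assoc g h)
        (w_assoc g (h ≫ k)) F))

end Groth.Agent.EtEff48.PP
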